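import Mathlib

/-!
# Coherence of a family of integer vectors

Vectors `L a` of norm `m`, with inner product `m - 1` between inequivalent ones and all of the same
weighted degree, have the form `w + δ e_(η a)` with `w` constant on the image of `η`.
-/

set_option autoImplicit false

namespace Cfsg.Agent.Lib.FpfBlock.Family

variable {T Ψ : Type*} [DecidableEq T] {s : Finset T} {J : Finset Ψ} {L : Ψ → T → ℤ}
  {N : Ψ → Ψ → ℕ} {m : ℤ} {deg : T → ℤ} {k : ℤ}

/-- The hypotheses on the family. -/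
structure Hyp (s : Finset T) (J : Finset Ψ) (L : Ψ → T → ℤ) (N : Ψ → Ψ → ℕ) (m : ℤ)
    (deg : T → ℤ) (k : ℤ) : Prop where
  inner : ∀ a ∈ J, ∀ b ∈ J, ∑ t ∈ s, L a t * L b t = m - 1 + (N a b : ℤ)
  self : ∀ a ∈ J, N a a = 1
  le_one : ∀ a ∈ J, ∀ b ∈ J, N a b ≤ 1
  pos : ∀ t ∈ s, 0 < deg t
  degree : ∀ a ∈ J, ∑ t ∈ s, deg t * L a t = k

variable (h : Hyp s J L N m deg k)

include h in
theorem zero_or_one {a b : Ψ} (ha : a ∈ J) (hb : b ∈ J) : N a b = 0 ∨ N a b = 1 := by
  have := h.le_one a ha b hb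
  omega

include h in
theorem sq_diff {a b : Ψ} (ha : a ∈ J) (hb : b ∈ J) :
    ∑ t ∈ s, (L a t - L b t) ^ 2 = 2 - 2 * (N a b : ℤ) := by
  rw [Finset.sum_congr rfl (g := fun t => L a t * L a t - 2 * (L a t * L b t) + L b t * L b t)
    (fun t _ => by ring), Finset.sum_add_distrib, Finset.sum_sub_distrib, ← Finset.mul_sum,
    h.inner a ha a ha, h.inner a ha b hb, h.inner b hb b hb, h.self a ha, h.self b hb]
  push_cast
  ring

include h in
theorem eq_of_one {a b : Ψ} (ha : a ∈ J) (hb : b ∈ J) (hab : N a b = 1) {t : T} (ht : t ∈ s) :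
    L a t = L b t := by
  have := sq_diff h ha hb
  rw [hab] at this
  have := (Finset.sum_eq_zero_iff_of_nonneg fun u _ => sq_nonneg _).1 (by simpa using this) t ht
  exact sub_eq_zero.1 ((pow_eq_zero_iff two_ne_zero).1 this)

include h in
/-- The difference of two inequivalent vectors. -/
theorem diff_eq {a b : Ψ} (ha : a ∈ J) (hb : b ∈ J) (hab : N a b = 0) :
    ∃ p ∈ s, ∃ q ∈ s, p ≠ q ∧
      ∀ t ∈ s, L a t - L b t = (if t = p then 1 else 0) - (if t = q then 1 else 0) := by
  set x : T → ℤ := fun t => L a t - L b t with hx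
  have hn : ∑ t ∈ s, x t ^ 2 = 2 := by
    have := sq_diff h ha hb
    rw [hab] at this
    simpa using this
  have hd : ∑ t ∈ s, deg t * x t = 0 := by
    simp only [hx, mul_sub, Finset.sum_sub_distrib, h.degree a ha, h.degree b hb, sub_self]
  set U := s.filter fun t => x t ≠ 0 with hU
  have hpm : ∀ t ∈ U, x t = 1 ∨ x t = -1 := by
    intro t ht
    rw [hU, Finset.mem_filter] at ht
    have h1 : x t ^ 2 ≤ 2 := hn ▸ Finset.single_le_sum (fun u _ => sq_nonneg (x u)) ht.1
    have h2 : -2 < x t ∧ x t < 2 := ⟨by nlinarith, by nlinarith⟩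
    omega
  have hz : ∀ t ∈ s, t ∉ U → x t = 0 := fun t ht hn => by
    by_contra h0
    exact hn (Finset.mem_filter.2 ⟨ht, h0⟩)
  have hc : U.card = 2 := by
    rw [← Finset.sum_subset (Finset.filter_subset _ s) (fun t ht hn => by rw [hz t ht hn]; ring),
      ← hU, Finset.sum_congr rfl (g := fun _ => (1 : ℤ)) (fun t ht => by
        rcases hpm t ht with e | e <;> rw [e] <;> norm_num), Finset.sum_const, nsmul_one] at hn
    exact_mod_cast hn
  rw [← Finset.sum_subset (Finset.filter_subset _ s) (fun t ht hn => by rw [hz t ht hn]; ring),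
    ← hU] at hd
  obtain ⟨u, v, huv, hUe⟩ := Finset.card_eq_two.1 hc
  have huU : u ∈ U := by rw [hUe]; simp
  have hvU : v ∈ U := by rw [hUe]; simp
  have hus := (Finset.mem_filter.1 huU).1
  have hvs := (Finset.mem_filter.1 hvU).1
  rw [hUe, Finset.sum_pair huv] at hd
  obtain ⟨p, q, hp, hq, hpq, hpe, hqe, hmem⟩ : ∃ p q, p ∈ s ∧ q ∈ s ∧ p ≠ q ∧ x p = 1 ∧ x q = -1 ∧
      ∀ t, t ∈ U → t = p ∨ t = q := by
    have hU2 : ∀ t, t ∈ U → t = u ∨ t = v := fun t ht => by simpa [hUe] using ht
    rcases hpm u huU with e | e <;> rcases hpm v hvU with e' | e' <;> rw [e, e'] at hd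
    · nlinarith [h.pos u hus, h.pos v hvs]
    · exact ⟨u, v, hus, hvs, huv, e, e', hU2⟩
    · exact ⟨v, u, hvs, hus, huv.symm, e', e, fun t ht => (hU2 t ht).symm⟩
    · nlinarith [h.pos u hus, h.pos v hvs]
  refine ⟨p, hp, q, hq, hpq, fun t ht => ?_⟩
  change x t = _
  by_cases htU : t ∈ U
  · rcases hmem t htU with rfl | rfl
    · rw [hpe, if_pos rfl, if_neg hpq, sub_zero]
    · rw [hqe, if_pos rfl, if_neg hpq.symm, zero_sub]
  · rw [hz t ht htU]
    have h1 : t ≠ p := fun e => by rw [e] at htU; exact htU (Finset.mem_filter.2 ⟨hp, by rw [hpe]; norm_num⟩)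
    have h2 : t ≠ q := fun e => by rw [e] at htU; exact htU (Finset.mem_filter.2 ⟨hq, by rw [hqe]; norm_num⟩)
    rw [if_neg h1, if_neg h2, sub_zero]

include h in
/-- Two differences out of the same vector share the positive or the negative position. -/
theorem share {a b c : Ψ} (ha : a ∈ J) (hb : b ∈ J) (hc : c ∈ J) (hab : N a b = 0)
    (hac : N a c = 0) (hbc : N b c = 0) {p q p' q' : T} (hp : p ∈ s) (hq : q ∈ s) (hpq : p ≠ q)
    (hx : ∀ t ∈ s, L a t - L b t = (if t = p then 1 else 0) - (if t = q then 1 else 0))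
    (hx' : ∀ t ∈ s, L a t - L c t = (if t = p' then 1 else 0) - (if t = q' then 1 else 0))
    (hpq' : p' ≠ q') : (p' = p ∧ q' ≠ q ∧ q' ≠ p) ∨ (q' = q ∧ p' ≠ p ∧ p' ≠ q) := by
  have hi : ∑ t ∈ s, (L a t - L b t) * (L a t - L c t) = 1 := by
    rw [Finset.sum_congr rfl
      (g := fun t => L a t * L a t - L a t * L c t - L b t * L a t + L b t * L c t)
      (fun t _ => by ring), Finset.sum_add_distrib, Finset.sum_sub_distrib, Finset.sum_sub_distrib,
      h.inner a ha a ha, h.inner a ha c hc, h.inner b hb a ha, h.inner b hb c hc, h.self a ha, hac,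
      hbc]
    have hba : N b a = 0 := by
      have h1 := h.inner a ha b hb
      have h2 := h.inner b hb a ha
      rw [Finset.sum_congr rfl (fun t _ => mul_comm (L b t) (L a t)), h1, hab] at h2
      push_cast at h2
      have : (N b a : ℤ) = 0 := by linarith
      exact_mod_cast this
    rw [hba]
    push_cast
    ring
  rw [Finset.sum_congr rfl (fun t ht => by rw [hx t ht, sub_mul, ite_mul, ite_mul, one_mul,
    zero_mul]), Finset.sum_sub_distrib, Finset.sum_ite_eq' s p, Finset.sum_ite_eq' s q, if_pos hp,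
    if_pos hq, hx' p hp, hx' q hq] at hi
  by_cases h1 : p = p' <;> by_cases h2 : p = q' <;> by_cases h3 : q = p' <;> by_cases h4 : q = q'
  all_goals simp only [h1, h2, h3, h4, if_true, if_false] at hi
  all_goals first
    | (exfalso; subst_vars; simp_all; done)
    | (left; exact ⟨h1.symm, Ne.symm h4, Ne.symm h2⟩)
    | (right; exact ⟨h4.symm, Ne.symm h1, Ne.symm h3⟩)

include h in
/-- The structure of the family. -/
theorem coherent (hJ : ∃ a ∈ J, ∃ b ∈ J, N a b = 0) :
    ∃ (δ d : ℤ) (w : T → ℤ) (η : Ψ → T), (δ = 1 ∨ δ = -1) ∧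
      (∀ c ∈ J, η c ∈ s ∧ w (η c) = d ∧
        ∀ t ∈ s, L c t = w t + δ * (if t = η c then 1 else 0)) ∧
      ∀ c ∈ J, ∀ c' ∈ J, (η c = η c' ↔ N c c' = 1) := by
  classical
  obtain ⟨a, ha, b, hb, hab⟩ := hJ
  obtain ⟨p, hp, q, hq, hpq, hx⟩ := diff_eq h ha hb hab
  obtain ⟨δ, hδ, hhub⟩ : ∃ δ : ℤ, (δ = 1 ∨ δ = -1) ∧ ∀ c ∈ J, N a c = 0 → N b c = 0 →
      ∃ p' ∈ s, ∃ q' ∈ s, (δ = 1 → p' = p) ∧ (δ = -1 → q' = q) ∧
        ∀ t ∈ s, L a t - L c t = (if t = p' then 1 else 0) - (if t = q' then 1 else 0) := by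
    by_cases hplus : ∀ c ∈ J, N a c = 0 → N b c = 0 →
        ∃ q' ∈ s, ∀ t ∈ s, L a t - L c t = (if t = p then 1 else 0) - (if t = q' then 1 else 0)
    · exact ⟨1, Or.inl rfl, fun c hc h1 h2 => by
        obtain ⟨q', hq', hx'⟩ := hplus c hc h1 h2
        exact ⟨p, hp, q', hq', fun _ => rfl, fun e => absurd e (by norm_num), hx'⟩⟩
    · push Not at hplus
      obtain ⟨c₀, hc₀, ha0, hb0, hno⟩ := hplus
      refine ⟨-1, Or.inr rfl, fun c hc h1 h2 => ?_⟩
      obtain ⟨p₀, hp₀, q₀, hq₀, hpq₀, hx₀⟩ := diff_eq h ha hc₀ ha0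
      obtain ⟨p', hp', q', hq', hpq', hx'⟩ := diff_eq h ha hc h1
      have hneg₀ : q₀ = q ∧ p₀ ≠ p ∧ p₀ ≠ q := by
        refine (share h ha hb hc₀ hab ha0 hb0 hp hq hpq hx hx₀ hpq₀).resolve_left fun e => ?_
        obtain ⟨t, ht, hne⟩ := hno q₀ hq₀
        exact hne (by rw [hx₀ t ht, e.1])
      rcases share h ha hb hc hab h1 h2 hp hq hpq hx hx' hpq' with e | e
      · exfalso
        have hc0c : N c₀ c = 0 := (zero_or_one h hc₀ hc).resolve_right fun e1 => by
          have e2 := hx₀ p hp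
          rw [eq_of_one h hc₀ hc e1 hp, hx' p hp, e.1, hneg₀.1, if_pos rfl, if_neg hpq,
            if_neg hneg₀.2.1.symm, if_neg e.2.2.symm] at e2
          norm_num at e2
        rcases share h ha hc₀ hc ha0 h1 hc0c hp₀ hq₀ hpq₀ hx₀ hx' hpq' with e' | e'
        · exact hneg₀.2.1 (e'.1.symm.trans e.1)
        · exact e.2.1 (e'.1.trans hneg₀.1)
      · exact ⟨p', hp', q', hq', fun e1 => absurd e1 (by norm_num), fun _ => e.1, hx'⟩
  -- the base point
  set ηa := if δ = 1 then p else q with hηa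
  set w : T → ℤ := fun t => L a t - δ * (if t = ηa then 1 else 0) with hw
  have hex : ∀ c ∈ J, ∃ e ∈ s, ∀ t ∈ s, L c t = w t + δ * (if t = e then 1 else 0) := by
    intro c hc
    rcases zero_or_one h ha hc with e1 | e1
    · rcases zero_or_one h hb hc with e2 | e2
      · obtain ⟨p', hp', q', hq', h1, h2, hx'⟩ := hhub c hc e1 e2
        rcases hδ with rfl | rfl
        · refine ⟨q', hq', fun t ht => ?_⟩
          have := hx' t ht
          rw [h1 rfl] at this
          simp only [hw, hηa, if_pos]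
          linarith
        · refine ⟨p', hp', fun t ht => ?_⟩
          have := hx' t ht
          rw [h2 rfl] at this
          simp only [hw, hηa, show ¬((-1 : ℤ) = 1) by norm_num, if_false]
          linarith
      · rcases hδ with rfl | rfl
        · refine ⟨q, hq, fun t ht => ?_⟩
          have := hx t ht
          rw [← eq_of_one h hb hc e2 ht]
          simp only [hw, hηa, if_pos]
          linarith
        · refine ⟨p, hp, fun t ht => ?_⟩
          have := hx t ht
          rw [← eq_of_one h hb hc e2 ht]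
          simp only [hw, hηa, show ¬((-1 : ℤ) = 1) by norm_num, if_false]
          linarith
    · refine ⟨ηa, ?_, fun t ht => ?_⟩
      · rw [hηa]; split_ifs <;> assumption
      · rw [← eq_of_one h ha hc e1 ht]
        simp only [hw]
        ring
  choose e hes heq using hex
  have hηas : ηa ∈ s := by rw [hηa]; split_ifs <;> assumption
  set η : Ψ → T := fun c => if hc : c ∈ J then e c hc else ηa with hη
  have hform : ∀ c ∈ J, η c ∈ s ∧ ∀ t ∈ s, L c t = w t + δ * (if t = η c then 1 else 0) := by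
    intro c hc
    simp only [hη, dif_pos hc]
    exact ⟨hes c hc, heq c hc⟩
  have hδ2 : δ * δ = 1 := by rcases hδ with e1 | e1 <;> rw [e1] <;> norm_num
  have hnorm : ∀ c ∈ J, (∑ t ∈ s, w t * w t) + 2 * δ * w (η c) + 1 = m := by
    intro c hc
    have h1 := h.inner c hc c hc
    rw [h.self c hc] at h1
    rw [Finset.sum_congr rfl (g := fun t => w t * w t + (if t = η c then 2 * δ * w t + 1 else 0))
      (fun t ht => by
        rw [(hform c hc).2 t ht]
        split_ifs
        · linear_combination hδ2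
        · ring),
      Finset.sum_add_distrib, Finset.sum_ite_eq' s (η c), if_pos (hform c hc).1] at h1
    push_cast at h1
    linarith
  refine ⟨δ, w (η a), w, η, hδ, fun c hc => ⟨(hform c hc).1, ?_, (hform c hc).2⟩, ?_⟩
  · have h1 := hnorm c hc
    have h2 := hnorm a ha
    have : δ * w (η c) = δ * w (η a) := by linarith
    exact mul_left_cancel₀ (fun e1 => by rw [e1] at hδ2; norm_num at hδ2) this
  · intro c hc c' hc'
    constructor
    · intro e1
      refine (zero_or_one h hc hc').resolve_left fun e2 => ?_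
      have := sq_diff h hc hc'
      rw [e2, Finset.sum_eq_zero fun t ht => by
        rw [(hform c hc).2 t ht, (hform c' hc').2 t ht, e1, sub_self]; ring] at this
      norm_num at this
    · intro e1
      have h1 := eq_of_one h hc hc' e1 (hform c hc).1
      rw [(hform c hc).2 _ (hform c hc).1, (hform c' hc').2 _ (hform c hc).1, if_pos rfl] at h1
      by_contra hne
      rw [if_neg hne, mul_zero, mul_one, add_right_inj] at h1
      rw [h1] at hδ2
      norm_num at hδ2

end Cfsg.Agent.Lib.FpfBlock.Family
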