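import Cfsg.Agent.Lib.FpfBlock.Principal
import Cfsg.Agent.Lib.BrauerMap.PrincipalSection
import Cfsg.Agent.S0840

/-!
# Automiser of order three

The normalised structure of the principal block, and the vanishing of class multiplication
coefficients of an involution in a non-real section.
-/

set_option autoImplicit false
set_option linter.unusedSectionVars false
set_option linter.style.haveILetI false

namespace Cfsg.Agent.Lib.FpfBlock.IndexThree

open Cfsg.Agent.Lib.Blocks Cfsg.Agent.Lib.Characters.Basic Cfsg.Agent.Lib.FpfBlock.Setting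
  Cfsg.Agent.Lib.FpfBlock.Principal
open Cfsg.Agent.Lib.Induced.Basic (natCard_ne_zero)
open scoped ComplexConjugate

universe u

variable {G : Type u} [Group G] [Finite G] {p : ℕ}

open scoped Classical in
/-- The block part of a class multiplication sum, as a sum over the group. -/
theorem block_sum_eq [Fintype G] (B : Set (Cfsg.IrrCharacter G)) (t y : G) :
    ∑ z : G, (∑ᶠ χ : Cfsg.IrrCharacter G,
        (χ : G → ℂ) t * (χ : G → ℂ) t * conj ((χ : G → ℂ) z) / (χ : G → ℂ) 1) *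
      (∑ ψ ∈ (Set.toFinite B).toFinset, (ψ : G → ℂ) z * conj ((ψ : G → ℂ) y)) =
      (Nat.card G : ℂ) *
        ∑ᶠ χ ∈ B, (χ : G → ℂ) t * (χ : G → ℂ) t * conj ((χ : G → ℂ) y) / (χ : G → ℂ) 1 := by
  haveI := Fintype.ofFinite (Cfsg.IrrCharacter G)
  rw [finsum_mem_eq_finite_toFinset_sum _ (Set.toFinite B)]
  simp only [finsum_eq_sum_of_fintype, Finset.sum_mul_sum]
  rw [Finset.sum_congr rfl fun z _ => Finset.sum_comm, Finset.sum_comm, Finset.mul_sum]
  refine Finset.sum_congr rfl fun ψ _ => ?_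
  rw [Finset.sum_comm, Finset.sum_eq_single ψ]
  · have := classInner_self_irr ψ
    rw [Cfsg.classInner, inv_mul_eq_one₀ natCard_ne_zero] at this
    rw [this, Finset.sum_mul]
    refine Finset.sum_congr rfl fun z _ => ?_
    ring
  · intro χ _ hne
    have := classInner_irr_of_ne (Ne.symm hne)
    rw [Cfsg.classInner, mul_eq_zero, or_iff_right (inv_ne_zero natCard_ne_zero)] at this
    rw [← mul_zero ((χ : G → ℂ) t * (χ : G → ℂ) t * conj ((ψ : G → ℂ) y) / (χ : G → ℂ) 1),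
      ← this, Finset.mul_sum]
    refine Finset.sum_congr rfl fun z _ => ?_
    ring
  · exact fun h => absurd (Finset.mem_univ ψ) h

/-- If no product of two conjugates of `t` has `p`-part conjugate to `y`, then the block part of
the class multiplication sum vanishes. -/
theorem block_sum_eq_zero {M : Ideal Cfsg.AlgInt} (hM : Cfsg.IsPModular p M)
    {B : Set (Cfsg.IrrCharacter G)} (hB : Cfsg.IsPBlock M B) {t y : G}
    (hy : ∃ k : ℕ, orderOf y = p ^ k)
    (h : ∀ a b x : G, IsConj t a → IsConj t b → Cfsg.IsPPart p (a * b) x → ¬ IsConj x y) :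
    ∑ᶠ χ ∈ B, (χ : G → ℂ) t * (χ : G → ℂ) t * conj ((χ : G → ℂ) y) / (χ : G → ℂ) 1 = 0 := by
  classical
  haveI := hM.2.1
  haveI := Fintype.ofFinite G
  haveI := Fintype.ofFinite (Cfsg.IrrCharacter G)
  set F : G → ℂ := fun z => ∑ᶠ χ : Cfsg.IrrCharacter G,
    (χ : G → ℂ) t * (χ : G → ℂ) t * conj ((χ : G → ℂ) z) / (χ : G → ℂ) 1
  set Bf := (Set.toFinite B).toFinset with hBf
  set K : G → ℂ := fun z => ∑ ψ ∈ Bf, (ψ : G → ℂ) z * conj ((ψ : G → ℂ) y)
  have hFK : ∀ z, F z * K z = 0 := by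
    intro z
    obtain ⟨x, hx⟩ := exists_isPPart hM.1 z
    by_cases hxy : IsConj x y
    · have hne : IsEmpty {q : G × G // IsConj t q.1 ∧ IsConj t q.2 ∧ q.1 * q.2 = z} :=
        ⟨fun q => h q.1.1 q.1.2 x q.2.1 q.2.2.1 (q.2.2.2.symm ▸ hx) hxy⟩
      have h0 := Cfsg.Agent.S0840.result t t z
      rw [Nat.card_of_isEmpty, Nat.cast_zero, eq_comm, mul_eq_zero] at h0
      rcases h0 with h0 | h0
      · exfalso
        haveI : Nonempty {x : G // IsConj t x} := ⟨⟨t, IsConj.refl t⟩⟩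
        simp at h0
      · rw [show F z = 0 from h0, zero_mul]
    · rw [show K z = 0 from ?_, mul_zero]
      rw [← sum_block_eq_zero hM hx (isPPart_self hM.1 hy) hxy hB,
        finsum_mem_eq_finite_toFinset_sum _ (Set.toFinite B)]
      refine Finset.sum_congr rfl fun χ _ => ?_
      rw [apply_inv (isCharacter_irr χ)]
  have h0 : ∑ z : G, F z * K z = 0 := Finset.sum_eq_zero fun z _ => hFK z
  have key := block_sum_eq B t y
  change ∑ z : G, F z * K z = _ at key
  rw [key, mul_eq_zero, or_iff_right natCard_ne_zero] at h0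
  exact h0

variable [Fact p.Prime] {P : Sylow p G} {n : G}

/-- A real element of `P` is an involution. -/
theorem sq_eq_one_of_real (hF : Fpf P n 3) {y : G} (hy : y ∈ (P : Subgroup G))
    (h : IsConj y y⁻¹) : y * y = 1 := by
  by_contra hne
  obtain ⟨i, hi⟩ := hF.fus y hy y⁻¹ (inv_mem hy) h
  have h2 : n ^ (2 * (i : ℕ)) * y * (n ^ (2 * (i : ℕ)))⁻¹ = y := by
    calc n ^ (2 * (i : ℕ)) * y * (n ^ (2 * (i : ℕ)))⁻¹
        = n ^ (i : ℕ) * (n ^ (i : ℕ) * y * (n ^ (i : ℕ))⁻¹) * (n ^ (i : ℕ))⁻¹ := by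
          rw [two_mul, pow_add]; group
      _ = (n ^ (i : ℕ) * y * (n ^ (i : ℕ))⁻¹)⁻¹ := by rw [hi]; rw [← conj_inv, hi]
      _ = y := by rw [hi, inv_inv]
  have h3 := hF.fix y hy (fun e => hne (by rw [e, mul_one])) _ h2
  have := i.2
  have hi0 : (i : ℕ) = 0 := by omega
  rw [hi0, pow_zero, one_mul, inv_one, mul_one] at hi
  exact hne (eq_inv_iff_mul_eq_one.1 hi)

/-- Products of two conjugates of an involution `t` have no `p`-part conjugate to `y`. -/
theorem no_pairs (hF : Fpf P n 3) {t : G} (ht : t * t = 1) (y : (P : Subgroup G)) (hy : y ≠ 1)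
    (hy2 : p = 2 → ∀ (t0 : (P : Subgroup G)), IsConj t (t0 : G) → ∀ j k : Fin 3,
      sg hF j t0 * sg hF k t0 ≠ y) :
    ∀ a b x : G, IsConj t a → IsConj t b → Cfsg.IsPPart p (a * b) x → ¬ IsConj x (y : G) := by
  have hp : p.Prime := Fact.out
  intro a b x ha hb hx hxy
  have ha2 : a * a = 1 := by obtain ⟨c, rfl⟩ := isConj_iff.1 ha; simp [mul_assoc, ← mul_assoc t t, ht]
  have hb2 : b * b = 1 := by obtain ⟨c, rfl⟩ := isConj_iff.1 hb; simp [mul_assoc, ← mul_assoc t t, ht]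
  have hainv : a⁻¹ = a := inv_eq_of_mul_eq_one_right ha2
  have hbinv : b⁻¹ = b := inv_eq_of_mul_eq_one_right hb2
  have hrev : ∀ k : ℤ, a * (a * b) ^ k * a⁻¹ = ((a * b) ^ k)⁻¹ := by
    intro k
    rw [← conj_zpow, ← inv_zpow]
    congr 1
    rw [mul_inv_rev, hainv, hbinv, ← mul_assoc, ha2, one_mul]
  obtain ⟨k, hk⟩ := Lib.BrauerMap.PrincipalSection.isPPart_mem_zpowers hp hx
  obtain ⟨v, hv, hcom, hpow, hv'⟩ := hx
  have hax : a * x * a⁻¹ = x⁻¹ := by rw [← hk]; exact hrev k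
  have hy0 : (y : G) * y = 1 := by
    refine sq_eq_one_of_real hF y.2 ?_
    obtain ⟨c, hc⟩ := isConj_iff.1 hxy
    refine IsConj.trans (IsConj.trans hxy.symm (isConj_iff.2 ⟨a, hax⟩)) (isConj_iff.2 ⟨c, ?_⟩)
    rw [← hc]
    group
  have hp2 : p = 2 := by
    obtain ⟨i, hi⟩ := IsPGroup.iff_orderOf.1 P.2 y
    have h2 : orderOf y = 2 := by
      refine orderOf_eq_prime ?_ hy
      exact Subtype.ext (by rw [pow_two]; exact hy0)
    rw [h2] at hi
    exact (Nat.prime_dvd_prime_iff_eq hp Nat.prime_two).1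
      (hi ▸ dvd_pow_self p (fun e => by simp [e] at hi))
  subst hp2
  -- the odd part is inverted by `a`
  have hx2 : x * x = 1 := by
    obtain ⟨c, hc⟩ := isConj_iff.1 hxy
    rw [show x = c⁻¹ * y * c by rw [← hc]; group]
    calc c⁻¹ * y * c * (c⁻¹ * y * c) = c⁻¹ * (y * y) * c := by group
      _ = 1 := by rw [hy0]; group
  have hxinv : x⁻¹ = x := inv_eq_of_mul_eq_one_right hx2
  have hax' : Commute a x := by
    rw [hxinv] at hax
    exact mul_inv_eq_iff_eq_mul.1 hax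
  have hav : a * v * a⁻¹ = v⁻¹ := by
    have h1 := hrev 1
    rw [zpow_one, ← hv] at h1
    have hva : a * v * a⁻¹ = x * (a * (x * v) * a⁻¹) := by
      calc a * v * a⁻¹ = (x * x) * (a * v * a⁻¹) := by rw [hx2, one_mul]
        _ = x * ((x * a) * v * a⁻¹) := by group
        _ = x * (a * (x * v) * a⁻¹) := by rw [← hax'.eq]; group
    rw [hva, h1, mul_inv_rev, hxinv, ← mul_assoc, (hcom.inv_right).eq, mul_assoc, hx2, mul_one]
  obtain ⟨w, hw⟩ : ∃ w, w ∈ Subgroup.zpowers v ∧ w * w = v := by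
    obtain ⟨j, hj⟩ : Odd (orderOf v) :=
      Nat.not_even_iff_odd.1 fun he => hv' he.two_dvd
    refine ⟨v ^ (j + 1), Subgroup.npow_mem_zpowers v _, ?_⟩
    rw [← pow_add, show j + 1 + (j + 1) = orderOf v + 1 by omega, pow_succ, pow_orderOf_eq_one,
      one_mul]
  obtain ⟨⟨j, rfl⟩, hw2⟩ := hw
  simp only at hw2
  have haw : a * v ^ j * a⁻¹ = (v ^ j)⁻¹ := by rw [← conj_zpow, hav, inv_zpow]
  have hxw : Commute x (v ^ j) := hcom.zpow_right j
  have hbx : IsConj t (a * x) := by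
    refine IsConj.trans hb (isConj_iff.2 ⟨v ^ j, ?_⟩)
    have hb' : b = a * (x * (v ^ j * v ^ j)) := by rw [hw2, hv, ← mul_assoc, ha2, one_mul]
    have haw' : v ^ j * a = a * (v ^ j)⁻¹ := by
      have := mul_inv_eq_iff_eq_mul.1 haw
      calc v ^ j * a = v ^ j * (a * v ^ j) * (v ^ j)⁻¹ := by group
        _ = v ^ j * ((v ^ j)⁻¹ * a) * (v ^ j)⁻¹ := by rw [this]
        _ = a * (v ^ j)⁻¹ := by group
    rw [hb']
    calc v ^ j * (a * (x * (v ^ j * v ^ j))) * (v ^ j)⁻¹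
        = (v ^ j * a) * x * v ^ j := by group
      _ = a * ((v ^ j)⁻¹ * (x * v ^ j)) := by rw [haw']; group
      _ = a * x := by rw [hxw.eq]; group
  -- move `a` and `x` into `P`
  have hpa : IsPGroup 2 (Subgroup.zpowers a) := by
    refine IsPGroup.iff_orderOf.2 fun g => ?_
    obtain ⟨i, -, hi⟩ := (Nat.dvd_prime_pow Nat.prime_two).1
      ((orderOf_dvd_natCard g).trans ((Nat.card_zpowers a).dvd.trans
        (orderOf_dvd_of_pow_eq_one (n := 2 ^ 1) (by rw [pow_one, pow_two, ha2]))))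
    exact ⟨i, hi⟩
  have hpx : IsPGroup 2 (Subgroup.zpowers x) := by
    obtain ⟨i, hi⟩ := hpow
    exact IsPGroup.of_card (n := i) (by rw [Nat.card_zpowers, hi])
  have hle : Subgroup.zpowers a ≤ Subgroup.normalizer (Subgroup.zpowers x : Set G) := by
    refine le_trans ?_ (Subgroup.centralizer_le_normalizer _)
    rw [Subgroup.zpowers_le, Subgroup.mem_centralizer_iff]
    rintro _ ⟨i, rfl⟩
    exact (hax'.zpow_right i).eq.symm
  obtain ⟨Q, hQ⟩ := (hpa.to_sup_of_normal_right' hpx hle).exists_le_sylow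
  obtain ⟨c, hc⟩ := MulAction.exists_smul_eq G Q P
  have hmem : ∀ g ∈ (Q : Subgroup G), c * g * c⁻¹ ∈ (P : Subgroup G) := fun g hg => by
    rw [← hc, Sylow.coe_subgroup_smul]
    simpa using Subgroup.smul_mem_pointwise_smul (a := MulAut.conj c) g (Q : Subgroup G) hg
  set a' : (P : Subgroup G) :=
    ⟨_, hmem a (hQ (Subgroup.mem_sup_left (Subgroup.mem_zpowers a)))⟩ with ha'
  set x' : (P : Subgroup G) :=
    ⟨_, hmem x (hQ (Subgroup.mem_sup_right (Subgroup.mem_zpowers x)))⟩ with hx'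
  have hta : IsConj t (a' : G) := ha.trans (isConj_iff.2 ⟨c, rfl⟩)
  have htax : IsConj t ((a' * x' : (P : Subgroup G)) : G) := by
    refine hbx.trans (isConj_iff.2 ⟨c, ?_⟩)
    change c * (a * x) * c⁻¹ = (c * a * c⁻¹) * (c * x * c⁻¹)
    group
  obtain ⟨j', hj'⟩ := hF.fus a' a'.2 _ (a' * x').2 (hta.symm.trans htax)
  obtain ⟨i, hi⟩ := hF.fus x' x'.2 y y.2
    (((isConj_iff.2 ⟨c, rfl⟩ : IsConj x (x' : G))).symm.trans hxy)
  have ha'1 : a' * a' = 1 := Subtype.ext (by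
    simp only [ha', Subgroup.coe_mul, Subgroup.coe_one]
    calc c * a * c⁻¹ * (c * a * c⁻¹) = c * (a * a) * c⁻¹ := by group
      _ = 1 := by rw [ha2]; group)
  have hxeq : x' = a' * sg hF j' a' := by
    rw [show sg hF j' a' = a' * x' from Subtype.ext hj', ← mul_assoc, ha'1, one_mul]
  have hyeq : y = sg hF i x' := (Subtype.ext hi).symm
  rw [hxeq, map_mul, sg_add] at hyeq
  exact hy2 rfl a' hta i ⟨((i : ℕ) + j') % 3, Nat.mod_lt _ (by omega)⟩
    (by rw [hyeq, sg_mod hF ((i : ℕ) + j')])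

/-- For an involution `t0 ∈ P` some non-identity element is no product of two conjugates. -/
theorem exists_avoid (hF : Fpf P n 3) (hbig : 4 < Nat.card (P : Subgroup G))
    (t0 : (P : Subgroup G)) (ht : t0 * t0 = 1) :
    ∃ y : (P : Subgroup G), y ≠ 1 ∧ ∀ j k : Fin 3, sg hF j t0 * sg hF k t0 ≠ y := by
  classical
  haveI := Fintype.ofFinite (P : Subgroup G)
  letI := commGrp hF
  set S : Finset (P : Subgroup G) :=
    {1, sg hF 0 t0 * sg hF 1 t0, sg hF 0 t0 * sg hF 2 t0, sg hF 1 t0 * sg hF 2 t0}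
  have hS : S.card ≤ 4 := Finset.card_le_four
  obtain ⟨y, hy⟩ : ∃ y, y ∉ S := by
    by_contra hall
    push Not at hall
    have := Finset.card_le_card (fun y _ => hall y : Finset.univ ⊆ S)
    rw [Finset.card_univ, ← Nat.card_eq_fintype_card] at this
    omega
  simp only [S, Finset.mem_insert, Finset.mem_singleton, not_or] at hy
  refine ⟨y, hy.1, fun j k e => ?_⟩
  have hself : ∀ i : ℕ, sg hF i t0 * sg hF i t0 = 1 := fun i => by rw [← map_mul, ht, map_one]
  fin_cases j <;> fin_cases k <;> simp_all [mul_comm]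

open scoped Classical in
/-- The orbit sum as a sum over `Fin 3`. -/
theorem orbit_sum {m : ℕ} (hF : Fpf P n m) [Fintype ((P : Subgroup G) →* ℂˣ)]
    {ψ : (P : Subgroup G) →* ℂˣ} (hψ : ψ ≠ 1) (z : (P : Subgroup G)) :
    ∑ ψ' ∈ orbit hF ψ, (ψ' z : ℂ) = ∑ i : Fin m, (ψ (sg hF i z) : ℂ) := by
  have e : orbit hF ψ = Finset.univ.image fun i : Fin m => ψ.comp (sg hF i) := by
    refine (Finset.eq_of_subset_of_card_le ?_ ?_).symm
    · intro ψ' hψ'
      obtain ⟨i, -, rfl⟩ := Finset.mem_image.1 hψ'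
      simp only [orbit, Finset.mem_filter, Finset.mem_erase, Finset.mem_univ, and_true]
      refine ⟨comp_ne_one hF hψ, (orbN_eq_one_iff hF (comp_ne_one hF hψ)).2
        ⟨⟨(m - 1) * (i : ℕ) % m, Nat.mod_lt _ hF.pos⟩, MonoidHom.ext fun x => ?_⟩⟩
      rw [MonoidHom.comp_apply, MonoidHom.comp_apply, ← sg_mod, sg_back']
    · rw [orbit, orbit_card hF hψ,
        Finset.card_image_of_injective _ fun i j h => comp_eq_iff hF hψ h,
        Finset.card_univ, Fintype.card_fin]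
  rw [e, Finset.sum_image fun i _ j _ h => comp_eq_iff hF hψ h]
  rfl

/-- The structure of the principal block for an automiser of order three. -/
theorem exists_three (hF : Fpf P n 3) (M : Ideal Cfsg.AlgInt) (hM : Cfsg.IsPModular p M)
    (hbig : 3 + 1 < Nat.card (P : Subgroup G)) [Fintype ((P : Subgroup G) →* ℂˣ)] :
    ∃ (Y : Finset (Cfsg.IrrCharacter G)) (a : Cfsg.IrrCharacter G → ℤ) (δ : ℤ)
      (ζ : ((P : Subgroup G) →* ℂˣ) → Cfsg.IrrCharacter G),
      (δ = 1 ∨ δ = -1) ∧ (↑Y ⊆ Cfsg.principalBlock M G) ∧ oneChar G ∉ Y ∧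
      Y.card * 3 + 1 = Nat.card (P : Subgroup G) ∧ a (oneChar G) = 1 ∧
      (∀ χ ∈ Cfsg.principalBlock M G, χ ∉ Y → (a χ = 1 ∨ a χ = -1) ∧
        ∀ z y : G, Cfsg.IsPPart p z y → y ∈ (P : Subgroup G) → y ≠ 1 →
          (χ : G → ℂ) z = (a χ : ℂ)) ∧
      Nat.card ↥(Cfsg.principalBlock M G \ ↑Y) = 3 ∧
      (∀ ψ, ψ ≠ 1 → ζ ψ ∈ Y) ∧ (∀ η ∈ Y, ∃ ψ, ψ ≠ 1 ∧ ζ ψ = η) ∧
      (∀ ψ ψ', ψ ≠ 1 → ψ' ≠ 1 → orbN hF ψ ψ' = 1 → ζ ψ' = ζ ψ) ∧
      (∀ ψ, ψ ≠ 1 → ∀ (z : G) (y : (P : Subgroup G)), Cfsg.IsPPart p z (y : G) → (y : G) ≠ 1 →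
        (ζ ψ : G → ℂ) z = (δ : ℂ) * ∑ ψ' ∈ orbit hF ψ, ((ψ' y : ℂˣ) : ℂ)) ∧
      (∀ η ∈ Y, ∀ η' ∈ Y, ∀ g : G, ¬ p ∣ orderOf g → (η : G → ℂ) g = (η' : G → ℂ) g) ∧
      (∀ η ∈ Y, ∀ g : G, ¬ p ∣ orderOf g → -(δ : ℂ) * (η : G → ℂ) g +
        ∑ᶠ χ ∈ Cfsg.principalBlock M G \ ↑Y, (a χ : ℂ) * (χ : G → ℂ) g = 0) := by
  classical
  haveI := hM.2.1
  obtain ⟨Y, a, d, δ, ζ, hδ, hYB, h1Y, hYm, ha1, hX, hζY, hζs, hζc, hζv, heq, hYr, hrel⟩ :=
    exists_split hF M hM hbig
  set X := (Set.toFinite (Cfsg.principalBlock M G \ ↑Y)).toFinset with hXdef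
  have hXmem : ∀ χ, χ ∈ X ↔ χ ∈ Cfsg.principalBlock M G ∧ χ ∉ Y := fun χ => by simp [hXdef]
  have h1X : oneChar G ∈ X := (hXmem _).2 ⟨oneChar_mem_principalBlock, h1Y⟩
  rw [finsum_mem_eq_finite_toFinset_sum _ (Set.toFinite _), ← hXdef] at heq
  have hsq : ∀ χ ∈ X, (1 : ℤ) ≤ a χ ^ 2 := fun χ hχ =>
    Int.add_one_le_iff.2 (sq_pos_of_ne_zero (hX χ ((hXmem χ).1 hχ).1 ((hXmem χ).1 hχ).2).1)
  have hge : (1 : ℤ) ≤ ∑ χ ∈ X, a χ ^ 2 :=
    le_trans (hsq _ h1X) (Finset.single_le_sum (fun χ _ => sq_nonneg (a χ)) h1X)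
  -- the consequences of `∑ a ^ 2 = 3`
  have hthree : ∑ χ ∈ X, a χ ^ 2 = 3 →
      (∀ χ ∈ Cfsg.principalBlock M G, χ ∉ Y → (a χ = 1 ∨ a χ = -1) ∧
        ∀ z y : G, Cfsg.IsPPart p z y → y ∈ (P : Subgroup G) → y ≠ 1 →
          (χ : G → ℂ) z = (a χ : ℂ)) ∧
      Nat.card ↥(Cfsg.principalBlock M G \ ↑Y) = 3 := by
    intro h3
    have hall : ∀ χ ∈ X, a χ ^ 2 = 1 := by
      intro χ hχ
      by_contra hne
      have h4 : (4 : ℤ) ≤ a χ ^ 2 := by
        have h1 := (hX χ ((hXmem χ).1 hχ).1 ((hXmem χ).1 hχ).2).1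
        rcases (show a χ ≤ -2 ∨ a χ = -1 ∨ a χ = 1 ∨ 2 ≤ a χ by omega) with e | e | e | e
        · nlinarith
        · exact absurd (by rw [e]; norm_num) hne
        · exact absurd (by rw [e]; norm_num) hne
        · nlinarith
      have := Finset.single_le_sum (fun χ _ => sq_nonneg (a χ)) hχ
      linarith
    refine ⟨fun χ h1 h2 => ⟨sq_eq_one_iff.1 (hall χ ((hXmem χ).2 ⟨h1, h2⟩)), (hX χ h1 h2).2⟩, ?_⟩
    rw [Finset.sum_congr rfl hall, Finset.sum_const, nsmul_one] at h3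
    rw [Nat.card_eq_card_finite_toFinset (Set.toFinite _), ← hXdef]
    exact_mod_cast h3
  have hY2 : 2 ≤ Y.card := by omega
  rcases eq_or_ne d 0 with rfl | hd
  · have h3 : ∑ χ ∈ X, a χ ^ 2 = 3 := by
      rcases hδ with rfl | rfl <;> norm_num at heq <;> linarith
    obtain ⟨hX', hcard⟩ := hthree h3
    refine ⟨Y, a, δ, ζ, hδ, hYB, h1Y, hYm, ha1, hX', hcard, hζY, hζs, hζc, ?_, hYr, ?_⟩
    · intro ψ hψ z y hz hy
      simpa using hζv ψ hψ z y hz hy
    · intro η hη g hg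
      simpa using hrel η hη g hg
  have hd1 : (1 : ℤ) ≤ d ^ 2 := Int.add_one_le_iff.2 (sq_pos_of_ne_zero hd)
  have hdδ : d = δ := by
    by_contra hne
    have h1 : (1 : ℤ) ≤ (d - δ) ^ 2 := Int.add_one_le_iff.2 (sq_pos_of_ne_zero (sub_ne_zero.2 hne))
    have h2 : ((Y.card : ℤ) - 1) * d ^ 2 ≤ 2 := by push_cast at heq; linarith
    have h3 : d = 1 ∨ d = -1 := by
      have : d ^ 2 ≤ 2 := by nlinarith
      have : -2 < d ∧ d < 2 := ⟨by nlinarith, by nlinarith⟩
      omega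
    rcases h3 with rfl | rfl <;> rcases hδ with rfl | rfl <;> norm_num at hne <;>
      (push_cast at heq; omega)
  subst hdδ
  have hsum : ((Y.card : ℤ) - 1) + ∑ χ ∈ X, a χ ^ 2 = 4 := by
    rcases hδ with rfl | rfl <;> norm_num at heq <;> linarith
  have hcases : Y.card = 2 := by
    obtain ⟨k, hk⟩ := IsPGroup.iff_card.1 P.2
    have hp : p.Prime := Fact.out
    by_contra hne
    have hr : Y.card = 3 ∨ Y.card = 4 := by omega
    rcases hr with hr | hr
    · rw [hr] at hYm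
      have h10 : p ^ k = 10 := by rw [← hk]; omega
      have h2 : p = 2 := ((Nat.prime_dvd_prime_iff_eq Nat.prime_two hp).1
        (Nat.prime_two.dvd_of_dvd_pow (h10 ▸ (by norm_num : 2 ∣ 10)))).symm
      have h5 : p = 5 := ((Nat.prime_dvd_prime_iff_eq (by norm_num) hp).1
        ((by norm_num : Nat.Prime 5).dvd_of_dvd_pow (h10 ▸ (by norm_num : 5 ∣ 10)))).symm
      omega
    · -- only the principal character is left: the degree relation fails
      have hX1 : X = {oneChar G} := by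
        refine (Finset.eq_singleton_iff_unique_mem).2 ⟨h1X, fun χ hχ => ?_⟩
        by_contra hne'
        have := Finset.sum_le_sum_of_subset_of_nonneg
          (s := {oneChar G, χ}) (t := X) (f := fun χ => a χ ^ 2)
          (Finset.insert_subset_iff.2 ⟨h1X, Finset.singleton_subset_iff.2 hχ⟩)
          (fun χ _ _ => sq_nonneg (a χ))
        rw [Finset.sum_pair (Ne.symm hne')] at this
        have := hsq χ hχ
        have := hsq _ h1X
        rw [hr] at hsum
        push_cast at hsum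
        linarith
      obtain ⟨η, hη⟩ : Y.Nonempty := Finset.card_pos.1 (by omega)
      have h := hrel η hη 1 (by simp [hp.ne_one])
      rw [finsum_mem_eq_finite_toFinset_sum _ (Set.toFinite _), ← hXdef, hX1,
        Finset.sum_singleton, ha1, oneChar_apply, hr, char_one_eq_degree] at h
      have h' : (3 * d * (Cfsg.charDegree (η : G → ℂ) : ℤ) + 1 : ℤ) = 0 := by
        have : ((3 * d * (Cfsg.charDegree (η : G → ℂ) : ℤ) + 1 : ℤ) : ℂ) = ((0 : ℤ) : ℂ) := by
          push_cast at h ⊢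
          linear_combination h
        exact_mod_cast this
      rcases hδ with rfl | rfl <;> omega
  obtain ⟨u, v, huv, hYe⟩ := Finset.card_eq_two.1 hcases
  have h3 : ∑ χ ∈ X, a χ ^ 2 = 3 := by rw [hcases] at hsum; push_cast at hsum; linarith
  obtain ⟨hX', hcard⟩ := hthree h3
  set sw : Cfsg.IrrCharacter G → Cfsg.IrrCharacter G := fun η => if η = u then v else u with hsw
  have hswY : ∀ η, sw η ∈ Y := fun η => by rw [hYe]; simp only [hsw]; split_ifs <;> simp
  have hswne : ∀ η, sw η ≠ η := fun η e => by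
    simp only [hsw] at e
    split_ifs at e with h
    · exact huv (h.symm.trans e.symm)
    · exact h e.symm
  have hswsw : ∀ η ∈ Y, sw (sw η) = η := fun η hη => by
    rw [hYe, Finset.mem_insert, Finset.mem_singleton] at hη
    rcases hη with rfl | rfl <;> simp [hsw, huv.symm]
  refine ⟨Y, a, -d, fun ψ => sw (ζ ψ), by rcases hδ with rfl | rfl <;> norm_num, hYB, h1Y, hYm,
    ha1, hX', hcard, fun ψ _ => hswY _, ?_, fun ψ ψ' h h' ho => congrArg sw (hζc ψ ψ' h h' ho), ?_, hYr,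
    ?_⟩
  · intro η hη
    obtain ⟨ψ, hψ, he⟩ := hζs (sw η) (hswY η)
    exact ⟨ψ, hψ, (congrArg sw he).trans (hswsw η hη)⟩
  · intro ψ hψ z y hz hy
    obtain ⟨ψ', hψ', he⟩ := hζs (sw (ζ ψ)) (hswY _)
    change (sw (ζ ψ) : G → ℂ) z = _
    rw [show sw (ζ ψ) = ζ ψ' from he.symm, hζv ψ' hψ' z y hz hy]
    have hd : Disjoint (orbit hF ψ) (orbit hF ψ') := by
      rw [Finset.disjoint_left]
      intro φ h1 h2
      simp only [orbit, Finset.mem_filter, Finset.mem_erase, Finset.mem_univ, and_true] at h1 h2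
      apply hswne (ζ ψ)
      rw [← he, ← hζc ψ φ hψ h1.1 h1.2, hζc ψ' φ hψ' h2.1 h2.2]
    have hun : orbit hF ψ ∪ orbit hF ψ' = Finset.univ.erase 1 := by
      refine Finset.eq_of_subset_of_card_le (fun φ hφ => ?_) ?_
      · simp only [orbit, Finset.mem_union, Finset.mem_filter] at hφ
        exact hφ.elim And.left And.left
      · rw [Finset.card_union_of_disjoint hd, orbit, orbit, orbit_card hF hψ, orbit_card hF hψ',
          Finset.card_erase_of_mem (Finset.mem_univ _), Finset.card_univ,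
          ← Nat.card_eq_fintype_card, card_dual hF]
        omega
    have hs := sum_dual hF y
    rw [if_neg fun e => hy (congrArg Subtype.val e),
      ← Finset.add_sum_erase _ _ (Finset.mem_univ (1 : (P : Subgroup G) →* ℂˣ)), ← hun,
      Finset.sum_union hd, MonoidHom.one_apply, Units.val_one] at hs
    push_cast
    linear_combination (d : ℂ) * hs
  · intro η hη g hg
    have h := hrel η hη g hg
    rw [hcases] at h
    push_cast at h ⊢
    linear_combination h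

end Cfsg.Agent.Lib.FpfBlock.IndexThree
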