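import Cfsg.Agent.Lib.FpfBlock.IndexThree
import Cfsg.Agent.Lib.Fg6.NormThree
import Cfsg.Agent.Lib.Characters.Kernel

/-!
# Automiser of order three and an involution outside every proper normal subgroup
-/

set_option autoImplicit false
set_option linter.unusedSectionVars false
set_option linter.style.haveILetI false

namespace Cfsg.Agent.Lib.FpfBlock.IndexThree

open Cfsg.Agent.Lib.Blocks Cfsg.Agent.Lib.Characters.Basic Cfsg.Agent.Lib.FpfBlock.Setting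
  Cfsg.Agent.Lib.FpfBlock.Principal
open Cfsg.Agent.Lib.Induced.Basic (natCard_ne_zero)
open scoped ComplexConjugate

universe u

variable {G : Type u} [Group G] [Finite G] {p : ℕ} [Fact p.Prime] {P : Sylow p G} {n : G}

/-- The arithmetic of the quadratic relation. -/
theorem form_arith {X₁ X₂ X₃ W₁ W₂ W₃ : ℤ} (hX : X₁ + X₂ + X₃ = -1) (hW : W₁ + W₂ + W₃ = 0)
    (h1 : X₁ ≠ 0) (h2 : X₂ ≠ 0) (h3 : X₃ ≠ 0) (hW2 : W₂ ≠ 0)
    (hQ : W₁ ^ 2 * X₂ * X₃ + W₂ ^ 2 * X₁ * X₃ + W₃ ^ 2 * X₁ * X₂ = 0) :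
    IsSquare (X₁ * X₂ * X₃) ∧ 0 < X₁ * X₂ * X₃ := by
  have hW3 : W₃ = -W₁ - W₂ := by linarith
  subst hW3
  have key : (W₁ * (X₂ * X₃ + X₁ * X₂) + X₁ * X₂ * W₂) ^ 2 = W₂ ^ 2 * (X₁ * X₂ * X₃) := by
    linear_combination (X₂ * X₃ + X₁ * X₂) * hQ - W₂ ^ 2 * (X₁ * X₂ * X₃) * hX
  obtain ⟨c, hc⟩ : W₂ ∣ (W₁ * (X₂ * X₃ + X₁ * X₂) + X₁ * X₂ * W₂) :=
    (Int.pow_dvd_pow_iff two_ne_zero).1 ⟨_, key⟩
  rw [hc] at key
  have hsq : X₁ * X₂ * X₃ = c * c :=
    mul_left_cancel₀ (pow_ne_zero 2 hW2) (by linear_combination -key)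
  refine ⟨⟨c, hsq⟩, ?_⟩
  have : X₁ * X₂ * X₃ ≠ 0 := mul_ne_zero (mul_ne_zero h1 h2) h3
  rw [hsq] at this ⊢
  exact mul_self_pos.2 (left_ne_zero_of_mul this)

/-- A non-principal irreducible character does not take its degree at `t`. -/
theorem apply_ne_degree {t : G} (hgen : ∀ K : Subgroup G, K.Normal → t ∈ K → K = ⊤)
    {χ : Cfsg.IrrCharacter G} (hχ : χ ≠ oneChar G) :
    (χ : G → ℂ) t ≠ (χ : G → ℂ) 1 := by
  intro he
  haveI := Fintype.ofFinite G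
  have htop := hgen _ (Lib.Characters.Kernel.charKer_normal (isCharacter_irr χ)) he
  have hall : ∀ g : G, (χ : G → ℂ) g = (χ : G → ℂ) 1 := fun g =>
    (Lib.Characters.Kernel.mem_charKer (isCharacter_irr χ) g).1 (htop ▸ Subgroup.mem_top g)
  have h := classInner_irr_of_ne hχ
  rw [Cfsg.classInner, mul_eq_zero, or_iff_right (inv_ne_zero natCard_ne_zero)] at h
  simp only [hall, oneChar_apply, map_one, mul_one, Finset.sum_const, nsmul_eq_mul,
    mul_eq_zero] at h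
  exact h.elim (by simp) (apply_one_ne_zero χ)

set_option maxHeartbeats 1000000 in
/-- The conclusion about the signs and the degrees. -/
theorem signs_and_square (hF : Fpf P n 3) (M : Ideal Cfsg.AlgInt) (hM : Cfsg.IsPModular p M)
    (hbig : 3 + 1 < Nat.card (P : Subgroup G)) [Fintype ((P : Subgroup G) →* ℂˣ)]
    {Y : Finset (Cfsg.IrrCharacter G)} {a : Cfsg.IrrCharacter G → ℤ} {δ : ℤ}
    {ζ : ((P : Subgroup G) →* ℂˣ) → Cfsg.IrrCharacter G}
    (hδ : δ = 1 ∨ δ = -1) (hYB : ↑Y ⊆ Cfsg.principalBlock M G) (h1Y : oneChar G ∉ Y)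
    (hYm : Y.card * 3 + 1 = Nat.card (P : Subgroup G)) (ha1 : a (oneChar G) = 1)
    (hX : ∀ χ ∈ Cfsg.principalBlock M G, χ ∉ Y → (a χ = 1 ∨ a χ = -1) ∧
      ∀ z y : G, Cfsg.IsPPart p z y → y ∈ (P : Subgroup G) → y ≠ 1 → (χ : G → ℂ) z = (a χ : ℂ))
    {χ₁ χ₂ : Cfsg.IrrCharacter G} (h12 : χ₁ ≠ χ₂) (hn1 : χ₁ ≠ oneChar G) (hn2 : χ₂ ≠ oneChar G)
    (hXeq : Cfsg.principalBlock M G \ ↑Y = {oneChar G, χ₁, χ₂})
    (hζY : ∀ ψ, ψ ≠ 1 → ζ ψ ∈ Y) (hζs : ∀ η ∈ Y, ∃ ψ, ψ ≠ 1 ∧ ζ ψ = η)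
    (hζc : ∀ ψ ψ', ψ ≠ 1 → ψ' ≠ 1 → orbN hF ψ ψ' = 1 → ζ ψ' = ζ ψ)
    (hζv : ∀ ψ, ψ ≠ 1 → ∀ (z : G) (y : (P : Subgroup G)), Cfsg.IsPPart p z (y : G) → (y : G) ≠ 1 →
      (ζ ψ : G → ℂ) z = (δ : ℂ) * ∑ ψ' ∈ orbit hF ψ, ((ψ' y : ℂˣ) : ℂ))
    (hYr : ∀ η ∈ Y, ∀ η' ∈ Y, ∀ g : G, ¬ p ∣ orderOf g → (η : G → ℂ) g = (η' : G → ℂ) g)
    (hrel : ∀ η ∈ Y, ∀ g : G, ¬ p ∣ orderOf g → -(δ : ℂ) * (η : G → ℂ) g +
      ∑ᶠ χ ∈ Cfsg.principalBlock M G \ ↑Y, (a χ : ℂ) * (χ : G → ℂ) g = 0)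
    {t : G} (ht : orderOf t = 2) (hgen : ∀ K : Subgroup G, K.Normal → t ∈ K → K = ⊤) :
    a χ₁ * a χ₂ * δ = -1 ∧ ¬ (a χ₁ = 1 ∧ a χ₂ = 1) ∧
      ∀ η ∈ Y, IsSquare (Cfsg.charDegree (η : G → ℂ) *
        (Cfsg.charDegree (χ₁ : G → ℂ) * Cfsg.charDegree (χ₂ : G → ℂ))) := by
  classical
  haveI := hM.2.1
  haveI := Fintype.ofFinite G
  haveI := Fintype.ofFinite (P : Subgroup G)
  have hp : p.Prime := Fact.out
  set e := oneChar G
  have hmem : ∀ χ ∈ ({e, χ₁, χ₂} : Set (Cfsg.IrrCharacter G)),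
      χ ∈ Cfsg.principalBlock M G ∧ χ ∉ Y := fun χ hχ => by
    rw [← hXeq] at hχ
    exact hχ
  obtain ⟨hB1, hY1⟩ := hmem χ₁ (by simp)
  obtain ⟨hB2, hY2⟩ := hmem χ₂ (by simp)
  obtain ⟨hs1, hv1⟩ := hX χ₁ hB1 hY1
  obtain ⟨hs2, hv2⟩ := hX χ₂ hB2 hY2
  have ht2 : t * t = 1 := by rw [← pow_two, ← ht, pow_orderOf_eq_one]
  obtain ⟨η₀, hη₀⟩ : Y.Nonempty := Finset.card_pos.1 (by omega)
  set x₁ := Cfsg.charDegree (χ₁ : G → ℂ) with hx1
  set x₂ := Cfsg.charDegree (χ₂ : G → ℂ) with hx2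
  set y₀ := Cfsg.charDegree (η₀ : G → ℂ) with hy0
  have hx1' : 0 < x₁ := charDegree_pos χ₁
  have hx2' : 0 < x₂ := charDegree_pos χ₂
  have hy0' : 0 < y₀ := charDegree_pos η₀
  have h1reg : ¬ p ∣ orderOf (1 : G) := by simp [hp.ne_one]
  have hdeg : ∀ η ∈ Y, Cfsg.charDegree (η : G → ℂ) = y₀ := by
    intro η hη
    have := hYr η hη η₀ hη₀ 1 h1reg
    rw [char_one_eq_degree, char_one_eq_degree] at this
    exact_mod_cast this
  have hrel' : ∀ η ∈ Y, ∀ g : G, ¬ p ∣ orderOf g → -(δ : ℂ) * (η : G → ℂ) g +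
      (1 + (a χ₁ : ℂ) * (χ₁ : G → ℂ) g + (a χ₂ : ℂ) * (χ₂ : G → ℂ) g) = 0 := by
    intro η hη g hg
    have h := hrel η hη g hg
    rw [hXeq, finsum_mem_insert _ (by simp [Ne.symm hn1, Ne.symm hn2]) (Set.toFinite _),
      finsum_mem_pair h12, ha1, oneChar_apply, Int.cast_one, one_mul, ← add_assoc (1 : ℂ)] at h
    exact h
  have hX3 : a χ₁ * x₁ + a χ₂ * x₂ + -δ * y₀ = -1 := by
    have h := hrel' η₀ hη₀ 1 h1reg
    rw [char_one_eq_degree, char_one_eq_degree, char_one_eq_degree, ← hx1, ← hx2, ← hy0] at h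
    have : ((a χ₁ * x₁ + a χ₂ * x₂ + -δ * y₀ : ℤ) : ℂ) = ((-1 : ℤ) : ℂ) := by
      push_cast
      linear_combination h
    exact_mod_cast this
  -- the block sum
  have hsplit : ∀ f : Cfsg.IrrCharacter G → ℂ,
      ∑ᶠ χ ∈ Cfsg.principalBlock M G, f χ = f e + f χ₁ + f χ₂ + ∑ η ∈ Y, f η := by
    intro f
    rw [← Set.sdiff_union_of_subset hYB, finsum_mem_union Set.disjoint_sdiff_left
      (Set.toFinite _) (Set.toFinite _), hXeq, finsum_mem_coe_finset,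
      finsum_mem_insert _ (by simp [Ne.symm hn1, Ne.symm hn2]) (Set.toFinite _),
      finsum_mem_pair h12]
    ring
  have hfib : ∀ η ∈ Y, ((Finset.univ.erase 1).filter fun ψ => ζ ψ = η).card = 3 := by
    have hle : ∀ η ∈ Y, 3 ≤ ((Finset.univ.erase 1).filter fun ψ => ζ ψ = η).card := by
      intro η hη
      obtain ⟨ψ, hψ, rfl⟩ := hζs η hη
      refine le_of_eq_of_le (orbit_card hF hψ).symm (Finset.card_le_card fun φ hφ => ?_)
      simp only [Finset.mem_filter, Finset.mem_erase, Finset.mem_univ, and_true] at hφ ⊢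
      exact ⟨hφ.1, hζc ψ φ hψ hφ.1 hφ.2⟩
    have hsum := Finset.card_eq_sum_card_fiberwise (f := ζ) (t := Y)
      (s := Finset.univ.erase (1 : (P : Subgroup G) →* ℂˣ))
      (fun ψ hψ => hζY ψ (Finset.mem_erase.1 hψ).1)
    rw [Finset.card_erase_of_mem (Finset.mem_univ _), Finset.card_univ,
      ← Nat.card_eq_fintype_card, card_dual hF] at hsum
    intro η hη
    refine (((Finset.sum_eq_sum_iff_of_le hle).1 ?_) η hη).symm
    rw [← hsum, Finset.sum_const, smul_eq_mul]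
    omega
  have hYsum : ∀ f : Cfsg.IrrCharacter G → ℂ,
      ∑ ψ ∈ Finset.univ.erase (1 : (P : Subgroup G) →* ℂˣ), f (ζ ψ) = 3 * ∑ η ∈ Y, f η := by
    intro f
    rw [← Finset.sum_fiberwise_of_maps_to (fun ψ hψ => hζY ψ (Finset.mem_erase.1 hψ).1),
      Finset.mul_sum]
    refine Finset.sum_congr rfl fun η hη => ?_
    rw [Finset.sum_congr rfl fun ψ hψ => by rw [(Finset.mem_filter.1 hψ).2], Finset.sum_const,
      hfib η hη, nsmul_eq_mul, Nat.cast_ofNat]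
  have hPP : ∀ z : (P : Subgroup G), Cfsg.IsPPart p (z : G) z := fun z => by
    obtain ⟨i, hi⟩ := IsPGroup.iff_orderOf.1 P.2 z
    exact isPPart_self hp ⟨i, by rw [Subgroup.orderOf_coe]; exact hi⟩
  have hne : ∀ z : (P : Subgroup G), z ≠ 1 → (z : G) ≠ 1 := fun z hz h => hz (Subtype.ext h)
  have hYy : ∀ z : (P : Subgroup G), z ≠ 1 → ∀ ψ, ψ ≠ 1 →
      (ζ ψ : G → ℂ) z = (δ : ℂ) * ∑ i : Fin 3, (ψ (sg hF i z) : ℂ) := fun z hz ψ hψ => by
    rw [hζv ψ hψ z z (hPP z) (hne z hz), orbit_sum hF hψ]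
  have hblock : ∀ y : (P : Subgroup G), y ≠ 1 →
      (p = 2 → ∀ (t0 : (P : Subgroup G)), IsConj t (t0 : G) → ∀ j k : Fin 3,
        sg hF j t0 * sg hF k t0 ≠ y) →
      1 + (χ₁ : G → ℂ) t * (χ₁ : G → ℂ) t * (a χ₁ : ℂ) / (x₁ : ℂ) +
        (χ₂ : G → ℂ) t * (χ₂ : G → ℂ) t * (a χ₂ : ℂ) / (x₂ : ℂ) +
        (∑ η ∈ Y, (η : G → ℂ) t * (η : G → ℂ) t * conj ((η : G → ℂ) y)) / (y₀ : ℂ) = 0 := by
    intro y hy hy2
    obtain ⟨i, hi⟩ := IsPGroup.iff_orderOf.1 P.2 y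
    have h := block_sum_eq_zero hM (isPBlock_principalBlock (M := M) (G := G)) (t := t) (y := (y : G))
      ⟨i, by rw [Subgroup.orderOf_coe]; exact hi⟩ (no_pairs hF ht2 y hy hy2)
    rw [hsplit, hv1 _ _ (hPP y) y.2 (hne y hy), hv2 _ _ (hPP y) y.2 (hne y hy)] at h
    simp only [e, oneChar_apply, map_one, mul_one, div_one, map_intCast, char_one_eq_degree,
      ← hx1, ← hx2] at h
    rw [Finset.sum_congr rfl fun η hη => by rw [hdeg η hη], ← Finset.sum_div] at h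
    exact h
  by_cases hp2 : p = 2
  · -- no such group
    exfalso
    subst hp2
    obtain ⟨c, hc⟩ := exists_conj_mem (P := P) (g := t) ⟨1, by rw [ht, pow_one]⟩
    set t0 : (P : Subgroup G) := ⟨_, hc⟩ with ht0
    have htt0 : IsConj t (t0 : G) := isConj_iff.2 ⟨c, rfl⟩
    have ht00 : t0 * t0 = 1 := Subtype.ext (by
      simp only [ht0, Subgroup.coe_mul, Subgroup.coe_one]
      calc c * t * c⁻¹ * (c * t * c⁻¹) = c * (t * t) * c⁻¹ := by group
        _ = 1 := by rw [ht2]; group)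
    have ht01 : t0 ≠ 1 := fun h => by
      rw [← OneMemClass.coe_eq_one, ht0] at h
      have h' : t = 1 := by
        have := congrArg (fun w => c⁻¹ * w * c) h
        simpa [mul_assoc] using this
      rw [h', orderOf_one] at ht
      omega
    obtain ⟨y, hy, hy2⟩ := exists_avoid hF (by omega) t0 ht00
    have hy2' : ∀ t' : (P : Subgroup G), IsConj t (t' : G) → ∀ j k : Fin 3,
        sg hF j t' * sg hF k t' ≠ y := by
      intro t' ht' j k
      obtain ⟨i, hi⟩ := hF.fus t0 t0.2 t' t'.2 (htt0.symm.trans ht')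
      rw [show t' = sg hF i t0 from (Subtype.ext hi).symm, sg_add, sg_add, sg_mod hF ((j : ℕ) + i),
        sg_mod hF ((k : ℕ) + i)]
      exact hy2 ⟨_, Nat.mod_lt _ (by omega)⟩ ⟨_, Nat.mod_lt _ (by omega)⟩
    have h := hblock y hy fun _ => hy2'
    have ht1 : ∀ χ : Cfsg.IrrCharacter G, (χ : G → ℂ) t = (χ : G → ℂ) (t0 : G) := fun χ =>
      char_eq_of_isConj χ htt0
    -- the orbit sums
    have hS : ∑ η ∈ Y, (η : G → ℂ) t * (η : G → ℂ) t * conj ((η : G → ℂ) y) = -9 * (δ : ℂ) := by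
      have h3 := hYsum fun η => (η : G → ℂ) t * (η : G → ℂ) t * conj ((η : G → ℂ) y)
      rw [Finset.sum_congr rfl fun ψ hψ => by
        rw [ht1, hYy t0 ht01 ψ (Finset.mem_erase.1 hψ).1, hYy y hy ψ (Finset.mem_erase.1 hψ).1]]
        at h3
      have hall : ∑ ψ : (P : Subgroup G) →* ℂˣ, (∑ i : Fin 3, (ψ (sg hF i t0) : ℂ)) *
          (∑ j : Fin 3, (ψ (sg hF j t0) : ℂ)) * conj (∑ k : Fin 3, (ψ (sg hF k y) : ℂ)) = 0 := by
        have hexp : ∀ u v w : Fin 3 → ℂ, (∑ i, u i) * (∑ j, v j) * ∑ k, w k =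
            ∑ i, ∑ j, ∑ k, u i * v j * w k := fun u v w => by
          simp only [Fin.sum_univ_three]; ring
        simp only [map_sum, conj_hom, hexp]
        rw [Finset.sum_comm]
        refine Finset.sum_eq_zero fun i _ => ?_
        rw [Finset.sum_comm]
        refine Finset.sum_eq_zero fun j _ => ?_
        rw [Finset.sum_comm]
        refine Finset.sum_eq_zero fun k _ => ?_
        rw [Finset.sum_congr rfl fun ψ _ => by rw [← Units.val_mul, ← Units.val_mul, ← map_mul,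
          ← map_mul], sum_dual hF, if_neg]
        intro h0
        rw [mul_inv_eq_one] at h0
        have h1 := congrArg (sg hF (2 * (k : ℕ))) h0
        rw [map_mul, sg_add, sg_add, sg_back hF (k : ℕ) y, sg_mod hF (2 * (k : ℕ) + i),
          sg_mod hF (2 * (k : ℕ) + j)] at h1
        exact hy2 ⟨_, Nat.mod_lt _ (by omega)⟩ ⟨_, Nat.mod_lt _ (by omega)⟩ h1
      rw [← Finset.add_sum_erase _ _ (Finset.mem_univ (1 : (P : Subgroup G) →* ℂˣ))] at hall
      simp only [MonoidHom.one_apply, Units.val_one, Finset.sum_const, Finset.card_univ,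
        Fintype.card_fin, nsmul_eq_mul, mul_one, map_natCast] at hall
      simp only [map_mul, map_intCast] at h3
      rw [Finset.sum_congr rfl (g := fun ψ => (δ : ℂ) ^ 3 * ((∑ i : Fin 3, (ψ (sg hF i t0) : ℂ)) *
          (∑ j : Fin 3, (ψ (sg hF j t0) : ℂ)) * conj (∑ k : Fin 3, (ψ (sg hF k y) : ℂ))))
        (fun ψ _ => by ring), ← Finset.mul_sum,
        show (δ : ℂ) ^ 3 = δ by rcases hδ with e' | e' <;> rw [e'] <;> norm_num] at h3
      linear_combination (-1 / 3 : ℂ) * h3 + (δ : ℂ) / 3 * hall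
    rw [hS, ht1 χ₁, ht1 χ₂, hv1 _ _ (hPP t0) t0.2 (hne t0 ht01),
      hv2 _ _ (hPP t0) t0.2 (hne t0 ht01)] at h
    have hsq : ∀ z : ℤ, z = 1 ∨ z = -1 → (z : ℂ) * z * z = z := fun z hz => by
      rcases hz with e' | e' <;> rw [e'] <;> norm_num
    rw [hsq _ hs1, hsq _ hs2] at h
    have hZ : (x₁ : ℤ) * x₂ * y₀ + a χ₁ * x₂ * y₀ + a χ₂ * x₁ * y₀ - 9 * δ * x₁ * x₂ = 0 := by
      have e1 : (x₁ : ℂ) ≠ 0 := Nat.cast_ne_zero.2 hx1'.ne'
      have e2 : (x₂ : ℂ) ≠ 0 := Nat.cast_ne_zero.2 hx2'.ne'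
      have e3 : (y₀ : ℂ) ≠ 0 := Nat.cast_ne_zero.2 hy0'.ne'
      have : (((x₁ : ℤ) * x₂ * y₀ + a χ₁ * x₂ * y₀ + a χ₂ * x₁ * y₀ - 9 * δ * x₁ * x₂ : ℤ) : ℂ)
          = ((0 : ℤ) : ℂ) := by
        push_cast
        field_simp at h
        linear_combination h
      exact_mod_cast this
    -- congruences modulo the order of `P`
    have hdvd : ∀ (χ : Cfsg.IrrCharacter G) (w : ℂ) (z : ℤ),
        (∑ v ∈ Finset.univ.erase (1 : (P : Subgroup G)), (χ : G → ℂ) v = w) → (z : ℂ) = w →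
        (Nat.card (P : Subgroup G) : ℤ) ∣ (Cfsg.charDegree (χ : G → ℂ) : ℤ) + z := by
      intro χ w z hw hz
      obtain ⟨k, ρ, -, hρ⟩ := χ.2
      have hres : Cfsg.IsCharacter (P : Subgroup G) (fun b : (P : Subgroup G) => (χ : G → ℂ) b) :=
        ⟨k, ρ.comp (P : Subgroup G).subtype, by rw [← hρ]; rfl⟩
      obtain ⟨m, hm⟩ := exists_classInner_nat hres (isCharacter_irr (oneChar (P : Subgroup G)))
      rw [Cfsg.classInner, inv_mul_eq_iff_eq_mul₀ natCard_ne_zero,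
        ← Finset.add_sum_erase _ _ (Finset.mem_univ (1 : (P : Subgroup G)))] at hm
      simp only [oneChar_apply, map_one, mul_one, OneMemClass.coe_one, char_one_eq_degree] at hm
      rw [hw, ← hz] at hm
      refine ⟨m, ?_⟩
      have : (((Cfsg.charDegree (χ : G → ℂ) : ℤ) + z : ℤ) : ℂ) =
          (((Nat.card (P : Subgroup G) : ℤ) * m : ℤ) : ℂ) := by
        push_cast
        linear_combination hm
      exact_mod_cast this
    obtain ⟨k, hk⟩ := IsPGroup.iff_card.1 P.2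
    have hq : (16 : ℤ) ∣ (Nat.card (P : Subgroup G) : ℤ) ∧ 16 ≤ Nat.card (P : Subgroup G) := by
      have hk4 : 4 ≤ k := by
        by_contra hlt
        have hk' : k = 0 ∨ k = 1 ∨ k = 2 ∨ k = 3 := by omega
        rcases hk' with rfl | rfl | rfl | rfl <;> rw [hk] at hYm hbig <;> omega
      rw [hk]
      exact ⟨by exact_mod_cast pow_dvd_pow 2 hk4,
        le_of_eq_of_le (by norm_num : 16 = 2 ^ 4) (Nat.pow_le_pow_right (by omega) hk4)⟩
    have hxd : ∀ χ : Cfsg.IrrCharacter G, χ ∈ Cfsg.principalBlock M G → χ ∉ Y → χ ≠ e →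
        15 ≤ Cfsg.charDegree (χ : G → ℂ) := by
      intro χ hχ hχY hχe
      obtain ⟨hs, hv⟩ := hX χ hχ hχY
      have hd := hq.1.trans (hdvd χ _ ((Nat.card (P : Subgroup G) - 1) * a χ) (by
        rw [Finset.sum_congr rfl fun v hv' => hv _ _ (hPP v) v.2
          (hne v (Finset.mem_erase.1 hv').1), Finset.sum_const,
          Finset.card_erase_of_mem (Finset.mem_univ _), Finset.card_univ,
          ← Nat.card_eq_fintype_card, nsmul_eq_mul,
          Nat.cast_sub Nat.card_pos, Nat.cast_one]) (by push_cast; rfl))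
      obtain ⟨d, hd⟩ := hd
      obtain ⟨b, hb⟩ := hq.1
      rcases hs with hs | hs <;> rw [hs, hb] at hd
      · by_contra hlt
        have hx : Cfsg.charDegree (χ : G → ℂ) = 1 := by
          have := charDegree_pos χ
          omega
        refine apply_ne_degree hgen hχe ?_
        rw [ht1, hv _ _ (hPP t0) t0.2 (hne t0 ht01), hs, char_one_eq_degree, hx]
        norm_num
      · have := charDegree_pos χ
        omega
    have hyd : (16 : ℤ) ∣ (y₀ : ℤ) - 3 * δ := by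
      obtain ⟨ψ, hψ, he⟩ := hζs η₀ hη₀
      have hd := hq.1.trans (hdvd (ζ ψ) _ (-3 * δ) rfl (by
        rw [Finset.sum_congr rfl fun v hv' => hYy v (Finset.mem_erase.1 hv').1 ψ hψ,
          ← Finset.mul_sum, Finset.sum_comm]
        have : ∀ i : Fin 3, ∑ v ∈ Finset.univ.erase (1 : (P : Subgroup G)),
            (ψ (sg hF i v) : ℂ) = -1 := by
          intro i
          have h0 := sum_elems (ψ.comp (sg hF i))
          rw [if_neg (comp_ne_one hF hψ),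
            ← Finset.add_sum_erase _ _ (Finset.mem_univ (1 : (P : Subgroup G)))] at h0
          simp only [MonoidHom.comp_apply, map_one, Units.val_one] at h0
          linear_combination h0
        rw [Finset.sum_congr rfl fun i _ => this i]
        push_cast
        simp
        ring))
      rw [he, ← hy0] at hd
      rw [show (y₀ : ℤ) - 3 * δ = y₀ + -3 * δ by ring]
      exact hd
    have d1 : (15 : ℤ) ≤ x₁ := by exact_mod_cast hxd χ₁ hB1 hY1 hn1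
    have d2 : (15 : ℤ) ≤ x₂ := by exact_mod_cast hxd χ₂ hB2 hY2 hn2
    have dy : (0 : ℤ) < y₀ := by exact_mod_cast hy0'
    have e12 : 15 * (x₂ : ℤ) ≤ x₁ * x₂ := mul_le_mul_of_nonneg_right d1 (by linarith)
    have e21 : 15 * (x₁ : ℤ) ≤ x₁ * x₂ :=
      (mul_comm (15 : ℤ) _).trans_le (mul_le_mul_of_nonneg_left d2 (by linarith))
    have dlo : 13 * ((x₁ : ℤ) * x₂) ≤ 15 * ((x₁ : ℤ) * x₂ + a χ₁ * x₂ + a χ₂ * x₁) := by
      rcases hs1 with e' | e' <;> rcases hs2 with e'' | e'' <;> rw [e', e''] <;> linarith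
    rcases hδ with e' | e'
    · rw [e'] at hZ hyd
      have hy10 : (y₀ : ℤ) ≤ 10 := by
        by_contra hlt
        have h11 : (11 : ℤ) ≤ y₀ := by omega
        have f1 := mul_le_mul_of_nonneg_left dlo dy.le
        have f2 := mul_le_mul_of_nonneg_right h11 (by positivity : (0 : ℤ) ≤ 13 * ((x₁ : ℤ) * x₂))
        linarith
      have hy3 : (y₀ : ℤ) = 3 := by omega
      rw [hy3] at hZ
      rcases hs1 with e' | e' <;> rcases hs2 with e'' | e'' <;> rw [e', e''] at hZ <;> linarith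
    · rw [e'] at hZ
      have f1 := mul_le_mul_of_nonneg_left dlo dy.le
      have f3 : (0 : ℤ) ≤ 13 * ((x₁ : ℤ) * x₂) * y₀ := by positivity
      linarith
  · -- `t` is `p`-regular
    have htr : ¬ p ∣ orderOf t := by
      rw [ht]
      exact fun h => hp2 ((Nat.prime_dvd_prime_iff_eq hp Nat.prime_two).1 h)
    obtain ⟨u₁, hu1⟩ := Lib.Fg6.NormThree.exists_int_involution χ₁ ht2
    obtain ⟨u₂, hu2⟩ := Lib.Fg6.NormThree.exists_int_involution χ₂ ht2
    obtain ⟨v, hv⟩ := Lib.Fg6.NormThree.exists_int_involution η₀ ht2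
    obtain ⟨y, hy⟩ : ∃ y : (P : Subgroup G), y ≠ 1 := by
      haveI : Nontrivial (P : Subgroup G) := Finite.one_lt_card_iff_nontrivial.1 (by omega)
      exact exists_ne 1
    have h := hblock y hy fun h => absurd h hp2
    have hW3 : a χ₁ * u₁ + a χ₂ * u₂ + -δ * v = -1 := by
      have h' := hrel' η₀ hη₀ t htr
      rw [hu1, hu2, hv] at h'
      have : ((a χ₁ * u₁ + a χ₂ * u₂ + -δ * v : ℤ) : ℂ) = ((-1 : ℤ) : ℂ) := by
        push_cast
        linear_combination h'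
      exact_mod_cast this
    have hS : ∑ η ∈ Y, (η : G → ℂ) t * (η : G → ℂ) t * conj ((η : G → ℂ) y) =
        (v : ℂ) * v * -(δ : ℂ) := by
      rw [Finset.sum_congr rfl fun η hη => by rw [hYr η hη η₀ hη₀ t htr, hv], ← Finset.mul_sum]
      congr 1
      have h3 := hYsum fun η => conj ((η : G → ℂ) y)
      rw [Finset.sum_congr rfl fun ψ hψ => by rw [hYy y hy ψ (Finset.mem_erase.1 hψ).1]] at h3
      simp only [map_mul, map_intCast, ← Finset.mul_sum, map_sum, conj_hom] at h3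
      rw [Finset.sum_comm] at h3
      have : ∀ k : Fin 3, ∑ ψ ∈ Finset.univ.erase (1 : (P : Subgroup G) →* ℂˣ),
          (ψ (sg hF k y)⁻¹ : ℂ) = -1 := by
        intro k
        have h0 := sum_dual hF (sg hF k y)⁻¹
        rw [if_neg (fun h => hy (sg_injective hF k (by rw [inv_eq_one.1 h, map_one]))),
          ← Finset.add_sum_erase _ _ (Finset.mem_univ (1 : (P : Subgroup G) →* ℂˣ))] at h0
        simp only [MonoidHom.one_apply, Units.val_one] at h0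
        linear_combination h0
      rw [Finset.sum_congr rfl fun k _ => this k, Finset.sum_const, Finset.card_univ,
        Fintype.card_fin, nsmul_eq_mul] at h3
      linear_combination (-1 / 3 : ℂ) * h3
    rw [hS, hu1, hu2] at h
    have hδ2 : δ * δ = 1 := by rcases hδ with e' | e' <;> rw [e'] <;> norm_num
    have ha12 : a χ₁ * a χ₁ = 1 := by rcases hs1 with e' | e' <;> rw [e'] <;> norm_num
    have ha22 : a χ₂ * a χ₂ = 1 := by rcases hs2 with e' | e' <;> rw [e'] <;> norm_num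
    have hZ : (x₁ : ℤ) * x₂ * y₀ + u₁ * u₁ * a χ₁ * x₂ * y₀ + u₂ * u₂ * a χ₂ * x₁ * y₀ -
        v * v * δ * x₁ * x₂ = 0 := by
      have e1 : (x₁ : ℂ) ≠ 0 := Nat.cast_ne_zero.2 hx1'.ne'
      have e2 : (x₂ : ℂ) ≠ 0 := Nat.cast_ne_zero.2 hx2'.ne'
      have e3 : (y₀ : ℂ) ≠ 0 := Nat.cast_ne_zero.2 hy0'.ne'
      have : (((x₁ : ℤ) * x₂ * y₀ + u₁ * u₁ * a χ₁ * x₂ * y₀ + u₂ * u₂ * a χ₂ * x₁ * y₀ -
          v * v * δ * x₁ * x₂ : ℤ) : ℂ) = ((0 : ℤ) : ℂ) := by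
        push_cast
        field_simp at h
        linear_combination h
      exact_mod_cast this
    have hW2 : a χ₂ * u₂ - a χ₂ * x₂ ≠ 0 := by
      rw [← mul_sub, mul_ne_zero_iff]
      refine ⟨by rcases hs2 with e' | e' <;> rw [e'] <;> norm_num, sub_ne_zero.2 fun h' => ?_⟩
      apply apply_ne_degree hgen hn2
      rw [hu2, h', char_one_eq_degree, hx2]
      norm_num
    have hQ : (a χ₁ * u₁ - a χ₁ * x₁) ^ 2 * (a χ₂ * x₂) * (-δ * y₀) +
        (a χ₂ * u₂ - a χ₂ * x₂) ^ 2 * (a χ₁ * x₁) * (-δ * y₀) +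
        (-δ * v - -δ * y₀) ^ 2 * (a χ₁ * x₁) * (a χ₂ * x₂) = 0 := by
      linear_combination (-δ * a χ₁ * a χ₂) * hZ +
        (a χ₁ * x₁ * (a χ₂ * x₂) * (-δ * y₀)) * hX3 -
        2 * (a χ₁ * x₁ * (a χ₂ * x₂) * (-δ * y₀)) * hW3
    have hneX : ∀ (z : ℤ) (x : ℕ), z = 1 ∨ z = -1 → 0 < x → z * x ≠ 0 := fun z x hz hx => by
      rcases hz with e' | e' <;> rw [e'] <;> omega
    have hn3 : -δ * (y₀ : ℤ) ≠ 0 :=
      hneX (-δ) y₀ (by rcases hδ with e' | e' <;> omega) hy0'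
    obtain ⟨hsq, hpos⟩ := form_arith hX3 (by linarith) (hneX _ _ hs1 hx1') (hneX _ _ hs2 hx2') hn3
      hW2 hQ
    have hprod : a χ₁ * a χ₂ * δ = -1 := by
      rcases hs1 with e1 | e1 <;> rcases hs2 with e2 | e2 <;> rcases hδ with e3 | e3 <;>
        rw [e1, e2, e3] at hpos ⊢ <;> norm_num at hpos ⊢ <;> nlinarith [mul_pos (mul_pos
          (Int.natCast_pos.2 hx1') (Int.natCast_pos.2 hx2')) (Int.natCast_pos.2 hy0')]
    refine ⟨hprod, ?_, fun η hη => ?_⟩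
    · rintro ⟨e1, e2⟩
      rw [e1, e2] at hX3 hprod
      have : δ = -1 := by linarith
      rw [this] at hX3
      omega
    · rw [hdeg η hη, ← Int.isSquare_natCast_iff]
      convert hsq using 1
      push_cast
      linear_combination ((y₀ : ℤ) * (x₁ * x₂)) * hprod

end Cfsg.Agent.Lib.FpfBlock.IndexThree
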