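import Cfsg.Agent.Lib.FpfBlock.Principal

/-!
# The fixed-point-free setting out of the normaliser of an abelian Sylow subgroup
-/

set_option autoImplicit false
set_option linter.style.haveILetI false
set_option linter.unusedSectionVars false

namespace Cfsg.Agent.Lib.FpfBlock.Normalizer

open Cfsg.Agent.Lib.FpfBlock.Setting

universe u

variable {G : Type u} [Group G] [Finite G] {p : ℕ} [Fact p.Prime]

theorem exists_fpf (P : Sylow p G) (hab : IsMulCommutative P) (m : ℕ) (hm1 : 1 < m)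
    (hCN : (Subgroup.centralizer ((P : Subgroup G) : Set G)).relIndex
      (Subgroup.normalizer ((P : Subgroup G) : Set G)) = m)
    (hcyc : ∃ g : G, g ∈ Subgroup.normalizer ((P : Subgroup G) : Set G) ∧
      Subgroup.centralizer ((P : Subgroup G) : Set G) ⊔ Subgroup.zpowers g =
        Subgroup.normalizer ((P : Subgroup G) : Set G))
    (hfrob : ∀ y : G, y ∈ (P : Subgroup G) → y ≠ 1 →
      Subgroup.centralizer ({y} : Set G) ⊓ Subgroup.normalizer ((P : Subgroup G) : Set G) =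
        Subgroup.centralizer ((P : Subgroup G) : Set G)) :
    ∃ n : G, Fpf P n m ∧ n ∈ Subgroup.normalizer ((P : Subgroup G) : Set G) ∧
      ∀ c : G, c ∈ Subgroup.normalizer ((P : Subgroup G) : Set G) →
        ∃ i : Fin m, (n ^ (i : ℕ))⁻¹ * c ∈ Subgroup.centralizer ((P : Subgroup G) : Set G) := by
  set N := Subgroup.normalizer ((P : Subgroup G) : Set G) with hN
  set C := Subgroup.centralizer ((P : Subgroup G) : Set G) with hC
  obtain ⟨n, hnN, hgen⟩ := hcyc
  haveI hCn : (C.subgroupOf N).Normal := by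
    refine ⟨fun c hc g => ?_⟩
    rw [Subgroup.mem_subgroupOf, Subgroup.mem_centralizer_iff] at hc ⊢
    intro a ha
    have h1 := hc _ ((Subgroup.mem_normalizer_iff''.1 g.2 a).1 ha)
    have h2 := congrArg (fun w => (g : G) * w * (g : G)⁻¹) h1
    simpa [mul_assoc] using h2
  set g₀ : N ⧸ C.subgroupOf N := QuotientGroup.mk (⟨n, hnN⟩ : N) with hg₀
  have htop : Subgroup.zpowers g₀ = ⊤ := by
    have h := Subgroup.subgroupOf_sup (A := C) (A' := Subgroup.zpowers n) (B := N)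
      (Subgroup.centralizer_le_normalizer _) (Subgroup.zpowers_le.2 hnN)
    rw [hgen, Subgroup.subgroupOf_self] at h
    rw [eq_top_iff]
    intro q _
    induction q using QuotientGroup.induction_on with
    | _ c =>
      obtain ⟨u, hu, v, hv, rfl⟩ := Subgroup.mem_sup_of_normal_left.1 (h ▸ Subgroup.mem_top c)
      rw [Subgroup.mem_subgroupOf] at hv
      obtain ⟨i, hi⟩ := Subgroup.mem_zpowers_iff.1 hv
      rw [QuotientGroup.mk_mul, (QuotientGroup.eq_one_iff u).2 hu, one_mul,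
        show v = (⟨n, hnN⟩ : N) ^ i from Subtype.ext (by simpa using hi.symm),
        QuotientGroup.mk_zpow]
      exact Subgroup.zpow_mem_zpowers g₀ i
  have hord : orderOf g₀ = m := by
    rw [← Nat.card_zpowers, htop, Subgroup.card_top, ← Subgroup.index_eq_card]
    exact hCN
  have hmem : ∀ i : ℕ, n ^ i ∈ C ↔ m ∣ i := by
    intro i
    rw [← hord, orderOf_dvd_iff_pow_eq_one, hg₀, ← QuotientGroup.mk_pow, QuotientGroup.eq_one_iff,
      Subgroup.mem_subgroupOf, Subgroup.coe_pow]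
  have hcover : ∀ c : G, c ∈ N → ∃ i : Fin m, (n ^ (i : ℕ))⁻¹ * c ∈ C := by
    intro c hc
    have hq : (QuotientGroup.mk (⟨c, hc⟩ : N) : N ⧸ C.subgroupOf N) ∈ Subgroup.zpowers g₀ :=
      htop ▸ Subgroup.mem_top _
    rw [← (isOfFinOrder_of_finite g₀).mem_powers_iff_mem_zpowers] at hq
    obtain ⟨j, hj⟩ := Submonoid.mem_powers_iff _ _ |>.1 hq
    refine ⟨⟨j % m, Nat.mod_lt _ (by omega)⟩, ?_⟩
    rw [← pow_mod_orderOf, hord, hg₀, ← QuotientGroup.mk_pow, QuotientGroup.eq,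
      Subgroup.mem_subgroupOf] at hj
    simpa using hj
  have hF : Fpf P n m :=
    { pos := by omega
      comm := fun a ha b hb => congrArg Subtype.val (hab.is_comm.comm ⟨a, ha⟩ ⟨b, hb⟩)
      mem := hnN
      pow := (hmem m).2 (dvd_refl m)
      fix := fun z hz hz1 i hi => (hmem i).1 ((hfrob z hz hz1).le
        ⟨Subgroup.mem_centralizer_singleton_iff.2 (mul_inv_eq_iff_eq_mul.1 hi), pow_mem hnN i⟩)
      fus := fun a ha b hb hcon => by
        obtain ⟨g, hg⟩ := isConj_iff.1 hcon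
        obtain ⟨c, hc, hcc⟩ := Sylow.conj_eq_normalizer_conj_of_mem P a g⁻¹ ha (by
          rw [inv_inv, hg]; exact hb)
        rw [inv_inv, hg] at hcc
        obtain ⟨i, hi⟩ := hcover c⁻¹ (inv_mem hc)
        refine ⟨i, ?_⟩
        have h := Subgroup.mem_centralizer_iff.1 hi a ha
        rw [hcc]
        calc n ^ (i : ℕ) * a * (n ^ (i : ℕ))⁻¹
            = n ^ (i : ℕ) * (a * ((n ^ (i : ℕ))⁻¹ * c⁻¹)) * c := by group
          _ = n ^ (i : ℕ) * ((n ^ (i : ℕ))⁻¹ * c⁻¹ * a) * c := by rw [h]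
          _ = c⁻¹ * a * c := by group
      cen := fun c hc z hz hz1 hcz =>
        (hfrob z hz hz1).le ⟨Subgroup.mem_centralizer_singleton_iff.2 hcz, hc⟩ }
  exact ⟨n, hF, hnN, hcover⟩

/-- Conjugacy of linear characters under the normaliser. -/
theorem rel_iff {P : Sylow p G} {n : G} {m : ℕ} (hF : Fpf P n m)
    (hnN : n ∈ Subgroup.normalizer ((P : Subgroup G) : Set G))
    (hcover : ∀ c : G, c ∈ Subgroup.normalizer ((P : Subgroup G) : Set G) →
      ∃ i : Fin m, (n ^ (i : ℕ))⁻¹ * c ∈ Subgroup.centralizer ((P : Subgroup G) : Set G)) :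
    ∀ ψ ψ' : ↥(P : Subgroup G) →* ℂˣ, ψ ≠ 1 →
      ((∃ n' : G, n' ∈ Subgroup.normalizer ((P : Subgroup G) : Set G) ∧ ∀ w w' : ↥(P : Subgroup G),
          (w' : G) = n' * w * n'⁻¹ → ψ' w' = ψ w) ↔
        ψ' ≠ 1 ∧ orbN hF ψ ψ' = 1) := by
  intro ψ ψ' hψ
  constructor
  · rintro ⟨n', hn', hrel⟩
    obtain ⟨i, hi⟩ := hcover n' hn'
    have hcomp : ψ'.comp (sg hF i) = ψ := by
      ext w
      rw [MonoidHom.comp_apply, hrel w (sg hF i w) ?_]
      rw [coe_sg]
      have h := Subgroup.mem_centralizer_iff.1 hi w w.2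
      calc n ^ (i : ℕ) * (w : G) * (n ^ (i : ℕ))⁻¹
          = n ^ (i : ℕ) * ((w : G) * ((n ^ (i : ℕ))⁻¹ * n')) * n'⁻¹ := by group
        _ = n ^ (i : ℕ) * ((n ^ (i : ℕ))⁻¹ * n' * (w : G)) * n'⁻¹ := by rw [h]
        _ = n' * w * n'⁻¹ := by group
    have hne : ψ' ≠ 1 := fun e => hψ (by rw [← hcomp, e]; ext w; simp)
    exact ⟨hne, (orbN_eq_one_iff hF hne).2 ⟨i, hcomp⟩⟩
  · rintro ⟨hne, ho⟩
    obtain ⟨i, hi⟩ := (orbN_eq_one_iff hF hne).1 ho
    refine ⟨n ^ (i : ℕ), pow_mem hnN i, fun w w' hw => ?_⟩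
    rw [← hi, MonoidHom.comp_apply]
    congr 1
    exact Subtype.ext hw

end Cfsg.Agent.Lib.FpfBlock.Normalizer
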