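import Cfsg.Agent.Lib.FpfBlock.Setting
import Cfsg.Agent.Lib.FpfBlock.Family

/-!
# The principal block: non-exceptional and exceptional characters

Under `Setting.Fpf`, with at least two orbits on the non-trivial linear characters of `P`.
-/

set_option autoImplicit false
set_option linter.unusedSectionVars false
set_option linter.style.haveILetI false

namespace Cfsg.Agent.Lib.FpfBlock.Principal

open Cfsg.Agent.Lib.Blocks Cfsg.Agent.Lib.Characters.Basic Cfsg.Agent.Lib.FpfBlock.Setting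
open Cfsg.Agent.Lib.Induced.Basic (natCard_ne_zero)
open scoped ComplexConjugate

universe u

variable {G : Type u} [Group G] [Finite G] {p : ℕ} [Fact p.Prime] {P : Sylow p G} {n : G} {m : ℕ}

open scoped Classical in
/-- The orbit of a linear character of `P`. -/
noncomputable def orbit (hF : Fpf P n m) [Fintype ((P : Subgroup G) →* ℂˣ)]
    (ψ : (P : Subgroup G) →* ℂˣ) : Finset ((P : Subgroup G) →* ℂˣ) :=
  (Finset.univ.erase 1).filter fun ψ' => orbN hF ψ ψ' = 1

/-- The structure of the principal block. -/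
theorem exists_split (hF : Fpf P n m) (M : Ideal Cfsg.AlgInt) (hM : Cfsg.IsPModular p M)
    (hbig : m + 1 < Nat.card (P : Subgroup G)) [Fintype ((P : Subgroup G) →* ℂˣ)] :
    ∃ (Y : Finset (Cfsg.IrrCharacter G)) (a : Cfsg.IrrCharacter G → ℤ) (d δ : ℤ)
      (ζ : ((P : Subgroup G) →* ℂˣ) → Cfsg.IrrCharacter G),
      (δ = 1 ∨ δ = -1) ∧ (↑Y ⊆ Cfsg.principalBlock M G) ∧ oneChar G ∉ Y ∧
      Y.card * m + 1 = Nat.card (P : Subgroup G) ∧ a (oneChar G) = 1 ∧
      (∀ χ ∈ Cfsg.principalBlock M G, χ ∉ Y → a χ ≠ 0 ∧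
        ∀ z y : G, Cfsg.IsPPart p z y → y ∈ (P : Subgroup G) → y ≠ 1 →
          (χ : G → ℂ) z = (a χ : ℂ)) ∧
      (∀ ψ, ψ ≠ 1 → ζ ψ ∈ Y) ∧ (∀ η ∈ Y, ∃ ψ, ψ ≠ 1 ∧ ζ ψ = η) ∧
      (∀ ψ ψ', ψ ≠ 1 → ψ' ≠ 1 → orbN hF ψ ψ' = 1 → ζ ψ' = ζ ψ) ∧
      (∀ ψ, ψ ≠ 1 → ∀ (z : G) (y : (P : Subgroup G)), Cfsg.IsPPart p z (y : G) → (y : G) ≠ 1 →
        (ζ ψ : G → ℂ) z = (d : ℂ) + (δ : ℂ) * ∑ ψ' ∈ orbit hF ψ, ((ψ' y : ℂˣ) : ℂ)) ∧
      ((d - δ) ^ 2 + ((Y.card : ℤ) - 1) * d ^ 2 +
        ∑ᶠ χ ∈ Cfsg.principalBlock M G \ ↑Y, a χ ^ 2 = (m : ℤ) + 1) ∧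
      (∀ η ∈ Y, ∀ η' ∈ Y, ∀ g : G, ¬ p ∣ orderOf g → (η : G → ℂ) g = (η' : G → ℂ) g) ∧
      (∀ η ∈ Y, ∀ g : G, ¬ p ∣ orderOf g → ((Y.card : ℂ) * d - δ) * (η : G → ℂ) g +
        ∑ᶠ χ ∈ Cfsg.principalBlock M G \ ↑Y, (a χ : ℂ) * (χ : G → ℂ) g = 0) := by
  classical
  haveI := hM.2.1
  haveI := Fintype.ofFinite G
  haveI := Fintype.ofFinite (P : Subgroup G)
  set c : ℂ := (Nat.card (P : Subgroup G) : ℂ) with hc
  have hc0 : c ≠ 0 := natCard_ne_zero
  -- the coefficients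
  have hL : ∀ (χ : Cfsg.IrrCharacter G) (ψ : (P : Subgroup G) →* ℂˣ), ∃ l : ℤ,
      (l : ℂ) = c⁻¹ * ∑ z : (P : Subgroup G), (χ : G → ℂ) z * (1 - conj (ψ z : ℂ)) := by
    intro χ ψ
    obtain ⟨d, ρ, -, hρ⟩ := χ.2
    have hres : Cfsg.IsCharacter (P : Subgroup G) (fun a : (P : Subgroup G) => (χ : G → ℂ) a) :=
      ⟨d, ρ.comp (P : Subgroup G).subtype, by rw [← hρ]; rfl⟩
    obtain ⟨k1, hk1⟩ := exists_classInner_nat hres
      (isCharacter_irr (Characters.Linear.linChar (1 : (P : Subgroup G) →* ℂˣ)))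
    obtain ⟨k2, hk2⟩ := exists_classInner_nat hres
      (isCharacter_irr (Characters.Linear.linChar ψ))
    refine ⟨(k1 : ℤ) - k2, ?_⟩
    push_cast
    rw [← hk1, ← hk2, Cfsg.classInner, Cfsg.classInner, ← mul_sub, ← Finset.sum_sub_distrib]
    congr 1
    refine Finset.sum_congr rfl fun z _ => ?_
    simp [Characters.Linear.linChar_apply]
    ring
  choose L hL using hL
  set B := (Set.toFinite (Cfsg.principalBlock M G)).toFinset with hB
  have hBmem : ∀ χ, χ ∈ B ↔ χ ∈ Cfsg.principalBlock M G := fun χ => Set.Finite.mem_toFinset _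
  set s := B.erase (oneChar G) with hs
  have h1B : oneChar G ∈ B := (hBmem _).2 oneChar_mem_principalBlock
  have hblock : ∀ f : Cfsg.IrrCharacter G → ℂ,
      ∑ᶠ χ ∈ Cfsg.principalBlock M G, f χ = f (oneChar G) + ∑ χ ∈ s, f χ := fun f => by
    rw [finsum_mem_eq_finite_toFinset_sum _ (Set.toFinite _), hs, Finset.add_sum_erase _ f h1B]
  have hL1 : ∀ ψ : (P : Subgroup G) →* ℂˣ, ψ ≠ 1 → L (oneChar G) ψ = 1 := by
    intro ψ hψ
    have h := hL (oneChar G) ψ
    have hsum : ∑ z : (P : Subgroup G), conj (ψ z : ℂ) = 0 := by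
      rw [← map_sum, sum_elems ψ, if_neg hψ, map_zero]
    simp only [oneChar_apply, one_mul, Finset.sum_sub_distrib, hsum, sub_zero, Finset.sum_const,
      Finset.card_univ, nsmul_eq_mul, mul_one] at h
    rw [hc, Nat.card_eq_fintype_card, inv_mul_cancel₀ (Nat.cast_ne_zero.2 Fintype.card_ne_zero)]
      at h
    exact_mod_cast h
  have hL0 : ∀ χ : Cfsg.IrrCharacter G, L χ 1 = 0 := fun χ => by
    have h := hL χ 1
    simp at h
    exact_mod_cast h
  -- values on `P`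
  have hval : ∀ (χ : Cfsg.IrrCharacter G) (z : (P : Subgroup G)), z ≠ 1 →
      (χ : G → ℂ) z = -∑ ψ : (P : Subgroup G) →* ℂˣ, (L χ ψ : ℂ) * (ψ z : ℂ) := by
    intro χ z hz
    simp only [hL, mul_assoc, ← Finset.mul_sum, Finset.sum_mul]
    rw [Finset.sum_comm]
    have hin : ∀ w : (P : Subgroup G), ∑ ψ : (P : Subgroup G) →* ℂˣ,
        (χ : G → ℂ) w * ((1 - conj (ψ w : ℂ)) * (ψ z : ℂ)) =
        -((χ : G → ℂ) w * if w = z then c else 0) := by
      intro w
      simp only [sub_mul, one_mul, mul_sub, Finset.sum_sub_distrib, ← Finset.mul_sum, conj_hom]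
      rw [sum_dual hF z, if_neg hz, mul_zero, zero_sub]
      congr 2
      rw [Finset.sum_congr rfl fun ψ _ => (by rw [map_mul, Units.val_mul] :
        (ψ w⁻¹ : ℂ) * (ψ z : ℂ) = (ψ (w⁻¹ * z) : ℂ)), sum_dual hF]
      exact if_congr inv_mul_eq_one rfl rfl
    rw [Finset.sum_congr rfl fun w _ => hin w, Finset.sum_neg_distrib]
    simp only [mul_ite, mul_zero, Finset.sum_ite_eq', Finset.mem_univ, if_true]
    field_simp
  -- inner products
  have hinner : ∀ ψ ψ' : (P : Subgroup G) →* ℂˣ, ψ ≠ 1 → ψ' ≠ 1 →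
      ∑ χ ∈ s, L χ ψ * L χ ψ' = (m : ℤ) - 1 + (orbN hF ψ ψ' : ℤ) := by
    intro ψ ψ' hψ hψ'
    have hterm : ∀ χ : Cfsg.IrrCharacter G, (L χ ψ : ℂ) * (L χ ψ' : ℂ) = c⁻¹ * c⁻¹ *
        ∑ z : (P : Subgroup G), ∑ w : (P : Subgroup G),
          (1 - conj (ψ z : ℂ)) * (1 - (ψ' w : ℂ)) *
            ((χ : G → ℂ) z * conj ((χ : G → ℂ) w)) := by
      intro χ
      have h2 : (L χ ψ' : ℂ) = conj (L χ ψ' : ℂ) := by rw [map_intCast]
      rw [h2, hL, hL, map_mul, map_inv₀, hc, map_natCast, map_sum, mul_mul_mul_comm,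
        Finset.sum_mul_sum]
      congr 1
      refine Finset.sum_congr rfl fun z _ => Finset.sum_congr rfl fun w _ => ?_
      simp only [map_mul, map_sub, map_one, Complex.conj_conj]
      ring
    have hall : ∑ᶠ χ ∈ Cfsg.principalBlock M G, (L χ ψ : ℂ) * (L χ ψ' : ℂ) =
        (m : ℂ) + (orbN hF ψ ψ' : ℂ) := by
      rw [finsum_mem_eq_finite_toFinset_sum _ (Set.toFinite _), ← hB]
      simp only [hterm, ← Finset.mul_sum]
      rw [Finset.sum_comm]
      simp only [Finset.sum_comm (s := B), ← Finset.mul_sum]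
      have key : ∀ z w : (P : Subgroup G), (1 - conj (ψ z : ℂ)) * (1 - (ψ' w : ℂ)) *
          (∑ χ ∈ B, (χ : G → ℂ) z * conj ((χ : G → ℂ) w)) =
          c * ∑ i : Fin m,
            if sg hF i z = w then (1 - conj (ψ z : ℂ)) * (1 - (ψ' w : ℂ)) else 0 := by
        intro z w
        rcases eq_or_ne z 1 with rfl | hz
        · simp
        rw [hB, ← finsum_mem_eq_finite_toFinset_sum _ (Set.toFinite _), sum_pair hF M hM hz,
          Finset.mul_sum, Finset.mul_sum, Finset.mul_sum]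
        refine Finset.sum_congr rfl fun i _ => ?_
        split_ifs <;> ring
      simp only [key, ← Finset.mul_sum]
      have hz : ∀ z : (P : Subgroup G), ∑ w : (P : Subgroup G), ∑ i : Fin m,
          (if sg hF i z = w then (1 - conj (ψ z : ℂ)) * (1 - (ψ' w : ℂ)) else 0) =
          ∑ i : Fin m, (1 - conj (ψ z : ℂ)) * (1 - (ψ' (sg hF i z) : ℂ)) := by
        intro z
        rw [Finset.sum_comm]
        simp
      simp only [hz]
      rw [Finset.sum_comm]
      have hi : ∀ i : Fin m,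
          ∑ z : (P : Subgroup G), (1 - conj (ψ z : ℂ)) * (1 - (ψ' (sg hF i z) : ℂ)) =
          c * (1 + if ψ'.comp (sg hF i) = ψ then (1 : ℂ) else 0) := by
        intro i
        have e1 : ∀ z : (P : Subgroup G), (1 - conj (ψ z : ℂ)) * (1 - (ψ' (sg hF i z) : ℂ)) =
            1 - conj (ψ z : ℂ) - ((ψ'.comp (sg hF i)) z : ℂ) +
              ((ψ⁻¹ * ψ'.comp (sg hF i)) z : ℂ) := by
          intro z
          rw [MonoidHom.mul_apply, MonoidHom.inv_apply, Units.val_mul, ← map_inv, ← conj_hom,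
            MonoidHom.comp_apply]
          ring
        simp only [e1, Finset.sum_add_distrib, Finset.sum_sub_distrib, ← map_sum, sum_elems,
          if_neg hψ, if_neg (comp_ne_one hF hψ'), map_zero, sub_zero, Finset.sum_const,
          Finset.card_univ, nsmul_eq_mul, mul_one]
        rw [mul_add, mul_one, hc, Nat.card_eq_fintype_card, mul_ite, mul_one, mul_zero]
        congr 1
        refine if_congr ?_ rfl rfl
        exact (inv_mul_eq_one (G := (P : Subgroup G) →* ℂˣ)).trans eq_comm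
      simp only [hi, ← Finset.mul_sum, Finset.sum_add_distrib, Finset.sum_const, Finset.card_univ,
        Fintype.card_fin, nsmul_eq_mul, Finset.sum_boole, mul_one]
      rw [orbN]
      field_simp
      congr 3
      ext i
      simp
    rw [hblock (fun χ => (L χ ψ : ℂ) * (L χ ψ' : ℂ)), hL1 ψ hψ, hL1 ψ' hψ'] at hall
    have h' : ((∑ χ ∈ s, L χ ψ * L χ ψ' : ℤ) : ℂ) =
        (((m : ℤ) - 1 + (orbN hF ψ ψ' : ℤ) : ℤ) : ℂ) := by
      push_cast at hall ⊢
      linear_combination hall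
    exact_mod_cast h'
  have hreg : ∀ ψ : (P : Subgroup G) →* ℂˣ, ψ ≠ 1 → ∀ g : G, ¬ p ∣ orderOf g →
      1 + ∑ χ ∈ s, (χ : G → ℂ) g * (L χ ψ : ℂ) = 0 := by
    intro ψ hψ g hg
    have hall : ∑ᶠ χ ∈ Cfsg.principalBlock M G, (χ : G → ℂ) g * (L χ ψ : ℂ) = 0 := by
      rw [finsum_mem_eq_finite_toFinset_sum _ (Set.toFinite _)]
      simp only [hL, Finset.mul_sum]
      rw [Finset.sum_comm]
      refine Finset.sum_eq_zero fun z _ => ?_
      rcases eq_or_ne z 1 with rfl | hz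
      · simp
      obtain ⟨k, hk⟩ := IsPGroup.iff_orderOf.1 P.2 z⁻¹
      rw [← Subgroup.orderOf_coe] at hk
      have hw := weak_orthogonality hM (isPBlock_principalBlock (M := M) (G := G))
        (x := g) (y := ((z⁻¹ : (P : Subgroup G)) : G)) hg (by
          rw [hk]
          refine dvd_pow_self p fun h0 => hz ?_
          rw [h0, pow_zero, orderOf_eq_one_iff] at hk
          exact Subtype.ext (by simpa using hk))
      rw [finsum_mem_eq_finite_toFinset_sum _ (Set.toFinite _)] at hw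
      calc _ = c⁻¹ * (1 - conj (ψ z : ℂ)) * ∑ χ ∈ B,
            (χ : G → ℂ) g * conj ((χ : G → ℂ) ((z⁻¹ : (P : Subgroup G)) : G)) := by
            rw [hB, Finset.mul_sum]
            refine Finset.sum_congr rfl fun χ _ => ?_
            rw [Subgroup.coe_inv, apply_inv (isCharacter_irr χ), Complex.conj_conj]
            ring
        _ = 0 := by rw [hB, hw, mul_zero]
    rw [hblock, hL1 ψ hψ, oneChar_apply, Int.cast_one, one_mul] at hall
    exact hall
  -- the family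
  set J : Finset ((P : Subgroup G) →* ℂˣ) := Finset.univ.erase 1 with hJ
  have hJm : ∀ ψ, ψ ∈ J ↔ ψ ≠ 1 := fun ψ => by simp [hJ]
  have hJc : J.card + 1 = Nat.card (P : Subgroup G) := by
    rw [hJ, Finset.card_erase_add_one (Finset.mem_univ _), Finset.card_univ,
      ← Nat.card_eq_fintype_card, card_dual hF]
  have hH : Family.Hyp s J (fun ψ χ => L χ ψ) (orbN hF) (m : ℤ)
      (fun χ => (Cfsg.charDegree (χ : G → ℂ) : ℤ)) (-1) :=
    { inner := fun a ha b hb => hinner a b ((hJm a).1 ha) ((hJm b).1 hb)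
      self := fun a ha => orbN_self hF ((hJm a).1 ha)
      le_one := fun a ha b hb => orbN_le hF ((hJm b).1 hb)
      pos := fun χ _ => by exact_mod_cast charDegree_pos χ
      degree := fun a ha => by
        have h := hreg a ((hJm a).1 ha) 1 (by simp [(Fact.out : p.Prime).ne_one])
        simp only [char_one_eq_degree] at h
        have h' : ((∑ χ ∈ s, (Cfsg.charDegree (χ : G → ℂ) : ℤ) * L χ a : ℤ) : ℂ) =
            ((-1 : ℤ) : ℂ) := by
          push_cast
          linear_combination h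
        exact_mod_cast h' }
  have hfib : ∀ a ∈ J, (J.filter fun b => orbN hF a b = 1).card = m := fun a ha =>
    orbit_card hF ((hJm a).1 ha)
  obtain ⟨δ, d, w, η, hδ, hη, hηN⟩ := Family.coherent hH (by
    obtain ⟨a, ha⟩ : J.Nonempty := Finset.card_pos.1 (by omega)
    refine ⟨a, ha, ?_⟩
    by_contra hall
    push Not at hall
    have h1 : J.filter (fun b => orbN hF a b = 1) = J := Finset.filter_true_of_mem fun b hb => by
      have := orbN_le hF (ψ := a) ((hJm b).1 hb)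
      have := hall b hb
      omega
    have := hfib a ha
    rw [h1] at this
    omega)
  set Y := J.image η with hY
  have hYs : Y ⊆ s := Finset.image_subset_iff.2 fun c hc => (hη c hc).1
  have hYc : J.card = Y.card * m := by
    rw [Finset.card_eq_sum_card_image η J, Finset.sum_congr rfl (g := fun _ => m) ?_,
      Finset.sum_const, smul_eq_mul]
    intro y hy
    obtain ⟨c, hc, rfl⟩ := Finset.mem_image.1 hy
    rw [← hfib c hc]
    congr 1
    refine Finset.filter_congr fun b hb => ?_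
    rw [eq_comm, hηN c hc b hb]
  have hwY : ∀ χ ∈ Y, w χ = d := by
    intro χ hχ
    obtain ⟨c, hc, rfl⟩ := Finset.mem_image.1 hχ
    exact (hη c hc).2.1
  have hLform : ∀ χ ∈ s, ∀ c ∈ J, L χ c = w χ + δ * (if χ = η c then 1 else 0) :=
    fun χ hχ c hc => (hη c hc).2.2 χ hχ
  have hPv : ∀ χ ∈ s, ∀ y : (P : Subgroup G), y ≠ 1 → (χ : G → ℂ) y =
      (w χ : ℂ) - (δ : ℂ) * ∑ c ∈ J.filter (fun c => χ = η c), (c y : ℂ) := by
    intro χ hχ y hy
    rw [hval χ y hy, ← Finset.add_sum_erase _ _ (Finset.mem_univ (1 : (P : Subgroup G) →* ℂˣ)),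
      hL0, Int.cast_zero, zero_mul, zero_add, ← hJ,
      Finset.sum_congr rfl fun c hc => by rw [hLform χ hχ c hc]]
    have h := sum_dual hF y
    rw [if_neg hy, ← Finset.add_sum_erase _ _ (Finset.mem_univ (1 : (P : Subgroup G) →* ℂˣ)),
      ← hJ] at h
    simp only [MonoidHom.one_apply, Units.val_one] at h
    rw [Finset.sum_filter, Finset.mul_sum]
    push_cast
    simp only [add_mul, Finset.sum_add_distrib, ← Finset.mul_sum, mul_ite, mul_one, mul_zero,
      ite_mul, zero_mul]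
    linear_combination (-(w χ : ℂ)) * h
  set a : Cfsg.IrrCharacter G → ℤ := fun χ => if χ = oneChar G then 1 else w χ with ha
  have hX : ∀ f : Cfsg.IrrCharacter G → ℂ, ∑ᶠ χ ∈ Cfsg.principalBlock M G \ ↑Y, f χ =
      f (oneChar G) + ∑ χ ∈ s \ Y, f χ := by
    intro f
    have h1Y : oneChar G ∉ Y := fun h => (Finset.mem_erase.1 (hYs h)).1 rfl
    have h1 : (Set.toFinite (Cfsg.principalBlock M G \ ↑Y)).toFinset =
        insert (oneChar G) (s \ Y) := by
      ext χ
      simp only [Set.Finite.mem_toFinset, Set.mem_sdiff, Finset.mem_coe, Finset.mem_insert,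
        Finset.mem_sdiff, hs, Finset.mem_erase, hBmem]
      constructor
      · rintro ⟨h1, h2⟩
        exact (em (χ = oneChar G)).imp id fun h => ⟨⟨h, h1⟩, h2⟩
      · rintro (rfl | ⟨⟨-, h1⟩, h2⟩)
        · exact ⟨oneChar_mem_principalBlock, h1Y⟩
        · exact ⟨h1, h2⟩
    rw [finsum_mem_eq_finite_toFinset_sum _ (Set.toFinite _), h1, Finset.sum_insert]
    simp [hs]
  have hweak : ∀ c ∈ J, ∀ g : G, ¬ p ∣ orderOf g →
      1 + ∑ χ ∈ s \ Y, (w χ : ℂ) * (χ : G → ℂ) g + (d : ℂ) * ∑ χ ∈ Y, (χ : G → ℂ) g +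
        (δ : ℂ) * (η c : G → ℂ) g = 0 := by
    intro c hc g hg
    have h := hreg c ((hJm c).1 hc) g hg
    rw [← Finset.sum_sdiff hYs] at h
    have e1 : ∀ χ ∈ s \ Y, (χ : G → ℂ) g * (L χ c : ℂ) = (w χ : ℂ) * (χ : G → ℂ) g := by
      intro χ hχ
      rw [Finset.mem_sdiff] at hχ
      rw [hLform χ hχ.1 c hc, if_neg fun (e : χ = η c) => hχ.2 (by rw [e]; exact Finset.mem_image_of_mem η hc)]
      push_cast
      ring
    have e2 : ∀ χ ∈ Y, (χ : G → ℂ) g * (L χ c : ℂ) =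
        (d : ℂ) * (χ : G → ℂ) g + (if χ = η c then (δ : ℂ) * (χ : G → ℂ) g else 0) := by
      intro χ hχ
      rw [hLform χ (hYs hχ) c hc, hwY χ hχ]
      split_ifs <;> push_cast <;> ring
    rw [Finset.sum_congr rfl e1, Finset.sum_congr rfl e2, Finset.sum_add_distrib,
      Finset.sum_ite_eq' Y (η c), if_pos (Finset.mem_image_of_mem η hc), ← Finset.mul_sum] at h
    linear_combination h
  have hYeq : ∀ χ ∈ Y, ∀ χ' ∈ Y, ∀ g : G, ¬ p ∣ orderOf g →
      (χ : G → ℂ) g = (χ' : G → ℂ) g := by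
    intro χ hχ χ' hχ' g hg
    obtain ⟨c, hc, rfl⟩ := Finset.mem_image.1 hχ
    obtain ⟨c', hc', rfl⟩ := Finset.mem_image.1 hχ'
    have h1 := hweak c hc g hg
    have h2 := hweak c' hc' g hg
    have hδ0 : (δ : ℂ) ≠ 0 := by rcases hδ with e | e <;> rw [e] <;> norm_num
    exact mul_left_cancel₀ hδ0 (by linear_combination h1 - h2)
  refine ⟨Y, a, d, -δ, fun ψ => if ψ = 1 then oneChar G else η ψ, ?_, ?_, ?_, ?_, if_pos rfl,
    ?_, ?_, ?_, ?_, ?_, ?_, hYeq, ?_⟩
  · rcases hδ with e | e <;> rw [e] <;> norm_num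
  · intro χ hχ
    exact (hBmem χ).1 (Finset.mem_erase.1 (hYs hχ)).2
  · exact fun h => (Finset.mem_erase.1 (hYs h)).1 rfl
  · rw [← hYc, hJc]
  · intro χ hχ hχY
    rcases eq_or_ne χ (oneChar G) with rfl | hne
    · simp only [ha, if_pos]
      exact ⟨one_ne_zero, fun z y _ _ _ => by rw [oneChar_apply, Int.cast_one]⟩
    have hχs : χ ∈ s := Finset.mem_erase.2 ⟨hne, (hBmem χ).2 hχ⟩
    have hconst : ∀ y : (P : Subgroup G), y ≠ 1 → (χ : G → ℂ) y = (w χ : ℂ) := fun y hy => by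
      rw [hPv χ hχs y hy, Finset.filter_false_of_mem fun c hc => fun e =>
        hχY (Finset.mem_image.2 ⟨c, hc, e.symm⟩), Finset.sum_empty, mul_zero, sub_zero]
    simp only [ha, if_neg hne]
    refine ⟨fun h0 => ?_, fun z y hz hy hy1 => ?_⟩
    · obtain ⟨y, hy, hy1, hne0⟩ := exists_ne_zero hF M hM χ hχ hne
      apply hne0
      rw [show (χ : G → ℂ) y = (χ : G → ℂ) ((⟨y, hy⟩ : (P : Subgroup G)) : G) from rfl,
        hconst ⟨y, hy⟩ (fun e => hy1 (congrArg Subtype.val e)), h0, Int.cast_zero]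
    · rw [section_const hF M hM hz hy hy1 χ hχ]
      exact hconst ⟨y, hy⟩ (fun e => hy1 (congrArg Subtype.val e))
  · intro ψ hψ
    simp only [if_neg hψ]
    exact Finset.mem_image_of_mem η ((hJm ψ).2 hψ)
  · intro χ hχ
    obtain ⟨c, hc, rfl⟩ := Finset.mem_image.1 hχ
    exact ⟨c, (hJm c).1 hc, if_neg ((hJm c).1 hc)⟩
  · intro ψ ψ' hψ hψ' h
    simp only [if_neg hψ, if_neg hψ']
    exact ((hηN ψ ((hJm ψ).2 hψ) ψ' ((hJm ψ').2 hψ')).2 h).symm
  · intro ψ hψ z y hz hy1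
    simp only [if_neg hψ]
    have hψJ := (hJm ψ).2 hψ
    rw [section_const hF M hM hz y.2 hy1 _
      ((hBmem _).1 (Finset.mem_erase.1 (hη ψ hψJ).1).2),
      hPv _ (hη ψ hψJ).1 y (fun e => hy1 (congrArg Subtype.val e)), (hη ψ hψJ).2.1]
    rw [show orbit hF ψ = J.filter (fun c => η ψ = η c) from ?_]
    · push_cast
      ring
    · ext c
      simp only [orbit, Finset.mem_filter, Finset.mem_erase, Finset.mem_univ, and_true, hJm]
      exact and_congr_right fun hc => (hηN ψ hψJ c ((hJm c).2 hc)).symm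
  · obtain ⟨c, hc⟩ : J.Nonempty := Finset.card_pos.1 (by omega)
    have h := hinner c c ((hJm c).1 hc) ((hJm c).1 hc)
    rw [orbN_self hF ((hJm c).1 hc), ← Finset.sum_sdiff hYs] at h
    have e1 : ∀ χ ∈ s \ Y, L χ c * L χ c = w χ ^ 2 := fun χ hχ => by
      rw [Finset.mem_sdiff] at hχ
      rw [hLform χ hχ.1 c hc, if_neg fun (e : χ = η c) => hχ.2 (by rw [e]; exact Finset.mem_image_of_mem η hc)]
      ring
    have e2 : ∀ χ ∈ Y, L χ c * L χ c = d ^ 2 + (if χ = η c then 2 * δ * d + 1 else 0) := by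
      intro χ hχ
      rw [hLform χ (hYs hχ) c hc, hwY χ hχ]
      split_ifs
      · rcases hδ with e | e <;> rw [e] <;> ring
      · ring
    rw [Finset.sum_congr rfl e1, Finset.sum_congr rfl e2, Finset.sum_add_distrib,
      Finset.sum_ite_eq' Y (η c), if_pos (Finset.mem_image_of_mem η hc), Finset.sum_const,
      nsmul_eq_mul] at h
    have h2 : ((∑ᶠ χ ∈ Cfsg.principalBlock M G \ ↑Y, a χ ^ 2 : ℤ) : ℂ) =
        ((1 + ∑ χ ∈ s \ Y, w χ ^ 2 : ℤ) : ℂ) := by
      rw [finsum_mem_eq_finite_toFinset_sum _ (Set.toFinite _), Int.cast_sum,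
        ← finsum_mem_eq_finite_toFinset_sum (fun χ => ((a χ ^ 2 : ℤ) : ℂ)) (Set.toFinite _), hX]
      push_cast
      simp only [ha, if_pos]
      congr 1
      · norm_num
      · refine Finset.sum_congr rfl fun χ hχ => ?_
        rw [if_neg (Finset.mem_erase.1 (Finset.mem_sdiff.1 hχ).1).1]
    rw [Int.cast_inj.1 h2]
    push_cast at h
    rcases hδ with e | e <;> rw [e] at h ⊢ <;> linear_combination h
  · intro χ hχ g hg
    obtain ⟨c, hc, rfl⟩ := Finset.mem_image.1 hχ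
    have h := hweak c hc g hg
    rw [Finset.sum_congr rfl fun χ' hχ' => hYeq χ' hχ' (η c) (Finset.mem_image_of_mem η hc) g hg,
      Finset.sum_const, nsmul_eq_mul] at h
    rw [hX]
    simp only [ha, if_pos, oneChar_apply, Int.cast_one, one_mul]
    rw [Finset.sum_congr rfl fun χ' hχ' => by
      rw [if_neg (Finset.mem_erase.1 (Finset.mem_sdiff.1 hχ').1).1]]
    push_cast
    linear_combination h

end Cfsg.Agent.Lib.FpfBlock.Principal
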