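import Cfsg.Agent.S0942
import Cfsg.Agent.S0947
import Cfsg.Agent.Lib.Blocks.Orthogonality
import Cfsg.Agent.Lib.BrauerMap.Induced
import Cfsg.Agent.Lib.BrauerMap.PrincipalSection
import Cfsg.Agent.Lib.Chars82.PrincipalBlock
import Cfsg.Agent.Lib.Characters.Linear
import Cfsg.Agent.Lib.Cores.Basic

/-!
# An abelian Sylow subgroup with a fixed-point-free cyclic automiser

`n` normalises the abelian Sylow `p`-subgroup `P`, induces a fixed-point-free automorphism of order
`m`, and controls the fusion in `P`.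
-/

set_option autoImplicit false
set_option linter.unusedSectionVars false
set_option linter.style.haveILetI false

namespace Cfsg.Agent.Lib.FpfBlock.Setting

open Cfsg.Agent.Lib.Blocks Cfsg.Agent.Lib.Characters.Basic
open scoped ComplexConjugate

universe u

variable {G : Type u} [Group G] [Finite G] {p : ℕ}

/-- The hypotheses on `P`, `n` and `m`. -/
structure Fpf (P : Sylow p G) (n : G) (m : ℕ) : Prop where
  pos : 0 < m
  comm : ∀ a ∈ (P : Subgroup G), ∀ b ∈ (P : Subgroup G), a * b = b * a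
  mem : n ∈ Subgroup.normalizer ((P : Subgroup G) : Set G)
  pow : n ^ m ∈ Subgroup.centralizer ((P : Subgroup G) : Set G)
  fix : ∀ z ∈ (P : Subgroup G), z ≠ 1 → ∀ i : ℕ, n ^ i * z * (n ^ i)⁻¹ = z → m ∣ i
  fus : ∀ x ∈ (P : Subgroup G), ∀ y ∈ (P : Subgroup G), IsConj x y →
    ∃ i : Fin m, n ^ (i : ℕ) * x * (n ^ (i : ℕ))⁻¹ = y
  cen : ∀ c ∈ Subgroup.normalizer ((P : Subgroup G) : Set G), ∀ z ∈ (P : Subgroup G), z ≠ 1 →
    Commute c z → c ∈ Subgroup.centralizer ((P : Subgroup G) : Set G)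

variable {P : Sylow p G} {n : G} {m : ℕ} (hF : Fpf P n m)

/-- Conjugation by `n ^ i` on `P`. -/
noncomputable def sg (i : ℕ) : (P : Subgroup G) →* (P : Subgroup G) :=
  ((MulAut.conj (n ^ i)).toMonoidHom.comp (P : Subgroup G).subtype).codRestrict (P : Subgroup G)
    fun x => (Subgroup.mem_normalizer_iff.1 (pow_mem hF.mem i) x).1 x.2

theorem coe_sg (i : ℕ) (x : (P : Subgroup G)) :
    ((sg hF i x : (P : Subgroup G)) : G) = n ^ i * x * (n ^ i)⁻¹ := rfl

theorem sg_add (i j : ℕ) (x : (P : Subgroup G)) : sg hF i (sg hF j x) = sg hF (i + j) x := by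
  apply Subtype.ext
  simp only [coe_sg, pow_add]
  group

theorem sg_period (k : ℕ) (x : (P : Subgroup G)) : sg hF (m * k) x = x := by
  apply Subtype.ext
  rw [coe_sg, pow_mul]
  have h := Subgroup.mem_centralizer_iff.1 (pow_mem hF.pow k) x x.2
  rw [← h, mul_inv_cancel_right]

theorem sg_mod (i : ℕ) (x : (P : Subgroup G)) : sg hF i x = sg hF (i % m) x := by
  conv_lhs => rw [← Nat.mod_add_div i m]
  rw [← sg_add, sg_period]

include hF in
theorem back_add (i : ℕ) : (m - 1) * i + i = m * i := by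
  conv_rhs => rw [show m = m - 1 + 1 by have := hF.pos; omega]
  ring

theorem sg_back (i : ℕ) (x : (P : Subgroup G)) : sg hF ((m - 1) * i) (sg hF i x) = x := by
  rw [sg_add, back_add hF, sg_period]

theorem sg_back' (i : ℕ) (x : (P : Subgroup G)) : sg hF i (sg hF ((m - 1) * i) x) = x := by
  rw [sg_add, add_comm, back_add hF, sg_period]

theorem sg_injective (i : ℕ) : Function.Injective (sg hF i) := fun x y h => by
  have := congrArg (sg hF ((m - 1) * i)) h
  rwa [sg_back, sg_back] at this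

theorem sg_fixed {i : ℕ} {x : (P : Subgroup G)} (hx : x ≠ 1) (h : sg hF i x = x) : m ∣ i :=
  hF.fix x x.2 (fun e => hx (Subtype.ext e)) i (congrArg Subtype.val h)

include hF in
theorem fin_eq_of_dvd {i j : Fin m} (h : m ∣ (i : ℕ) + (m - 1) * j) : i = j := by
  have h1 := back_add hF (j : ℕ)
  have hi := i.2
  have hj := j.2
  obtain ⟨q, hq⟩ := h
  apply Fin.ext
  have e : ((i : ℕ) : ℤ) - j = (m : ℤ) * ((q : ℤ) - j) := by
    have h1' : (((m - 1) * (j : ℕ) : ℕ) : ℤ) + (j : ℕ) = (m : ℤ) * (j : ℕ) := by exact_mod_cast h1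
    have hq' : ((i : ℕ) : ℤ) + (((m - 1) * (j : ℕ) : ℕ) : ℤ) = (m : ℤ) * q := by exact_mod_cast hq
    linear_combination hq' - h1'
  have h0 := Int.eq_zero_of_abs_lt_dvd ⟨_, e⟩ (abs_lt.2 ⟨by omega, by omega⟩)
  omega

theorem sg_eq_iff {i j : Fin m} {x : (P : Subgroup G)} (hx : x ≠ 1)
    (h : sg hF i x = sg hF j x) : i = j := by
  have h' := congrArg (sg hF ((m - 1) * (j : ℕ))) h
  rw [sg_back, sg_add, add_comm] at h'
  exact fin_eq_of_dvd hF (sg_fixed hF hx h')

include hF in
/-- A commutative group structure on `P`. -/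
noncomputable abbrev commGrp : CommGroup (P : Subgroup G) :=
  { (inferInstance : Group (P : Subgroup G)) with
    mul_comm := fun a b => Subtype.ext (hF.comm a a.2 b b.2) }

include hF in
theorem finite_dual : Finite ((P : Subgroup G) →* ℂˣ) := by
  letI := commGrp hF
  exact Nat.finite_of_card_ne_zero
    (by rw [CommGroup.card_monoidHom_of_hasEnoughRootsOfUnity]; exact Nat.card_pos.ne')

include hF in
theorem card_dual : Nat.card ((P : Subgroup G) →* ℂˣ) = Nat.card (P : Subgroup G) := by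
  letI := commGrp hF
  exact CommGroup.card_monoidHom_of_hasEnoughRootsOfUnity _ ℂ

include hF in
open scoped Classical in
theorem sum_dual [Fintype ((P : Subgroup G) →* ℂˣ)] (x : (P : Subgroup G)) :
    ∑ ψ : (P : Subgroup G) →* ℂˣ, (ψ x : ℂ) =
      if x = 1 then (Nat.card (P : Subgroup G) : ℂ) else 0 := by
  split_ifs with h
  · subst h
    simp [← card_dual hF, Nat.card_eq_fintype_card]
  · letI := commGrp hF
    obtain ⟨φ, hφ⟩ := CommGroup.exists_apply_ne_one_of_hasEnoughRootsOfUnity _ ℂ h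
    refine sum_hom_units_eq_zero
      ((Units.coeHom ℂ).comp (MonoidHom.eval x : ((P : Subgroup G) →* ℂˣ) →* ℂˣ)) fun h0 => hφ ?_
    exact Units.ext (by simpa using DFunLike.congr_fun h0 φ)

open scoped Classical in
theorem sum_elems [Fintype (P : Subgroup G)] (ψ : (P : Subgroup G) →* ℂˣ) :
    ∑ x : (P : Subgroup G), (ψ x : ℂ) =
      if ψ = 1 then (Nat.card (P : Subgroup G) : ℂ) else 0 := by
  split_ifs with h
  · subst h
    simp [Nat.card_eq_fintype_card]
  · refine sum_hom_units_eq_zero ((Units.coeHom ℂ).comp ψ) fun h0 => h ?_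
    exact MonoidHom.ext fun x => Units.ext (by simpa using DFunLike.congr_fun h0 x)

theorem conj_hom (ψ : (P : Subgroup G) →* ℂˣ) (x : (P : Subgroup G)) :
    conj (ψ x : ℂ) = (ψ x⁻¹ : ℂ) := by
  have := apply_inv (isCharacter_irr (Characters.Linear.linChar ψ)) x
  rw [Characters.Linear.linChar_apply, Characters.Linear.linChar_apply] at this
  exact this.symm

open scoped Classical in
/-- The number of `i` carrying `ψ'` to `ψ`. -/
noncomputable def orbN (ψ ψ' : (P : Subgroup G) →* ℂˣ) : ℕ :=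
  (Finset.univ.filter fun i : Fin m => ψ'.comp (sg hF i) = ψ).card

theorem comp_fixed {i : ℕ} {ψ : (P : Subgroup G) →* ℂˣ} (hψ : ψ ≠ 1)
    (h : ψ.comp (sg hF i) = ψ) : m ∣ i := by
  by_contra h3
  apply hψ
  letI := commGrp hF
  have hinj : Function.Injective (fun x : (P : Subgroup G) => x⁻¹ * sg hF i x) := by
    intro x y hxy
    by_contra hne
    refine h3 (sg_fixed hF (x := x * y⁻¹) (fun e => hne (mul_inv_eq_one.1 e)) ?_)
    simp only at hxy
    rw [inv_mul_eq_iff_eq_mul] at hxy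
    rw [map_mul, map_inv, hxy, ← mul_assoc, mul_assoc (x * y⁻¹), mul_inv_cancel, mul_one]
  ext x
  obtain ⟨y, hy⟩ := (Finite.injective_iff_surjective.1 hinj) x
  have := DFunLike.congr_fun h y
  simp only [MonoidHom.comp_apply] at this
  rw [← hy]
  simp [map_mul, this]

theorem comp_eq_iff {i j : Fin m} {ψ : (P : Subgroup G) →* ℂˣ} (hψ : ψ ≠ 1)
    (h : ψ.comp (sg hF i) = ψ.comp (sg hF j)) : i = j := by
  refine fin_eq_of_dvd hF (comp_fixed hF hψ ?_)
  ext x
  have := DFunLike.congr_fun h (sg hF ((m - 1) * (j : ℕ)) x)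
  simp only [MonoidHom.comp_apply, sg_back'] at this
  simp only [MonoidHom.comp_apply, ← sg_add, this]

theorem comp_ne_one {i : ℕ} {ψ : (P : Subgroup G) →* ℂˣ} (hψ : ψ ≠ 1) : ψ.comp (sg hF i) ≠ 1 := by
  intro h
  apply hψ
  ext x
  obtain ⟨y, rfl⟩ := (Finite.injective_iff_surjective.1 (sg_injective hF i)) x
  exact congrArg Units.val (DFunLike.congr_fun h y)

theorem orbN_self {ψ : (P : Subgroup G) →* ℂˣ} (hψ : ψ ≠ 1) : orbN hF ψ ψ = 1 := by
  classical
  rw [orbN, Finset.card_eq_one]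
  refine ⟨⟨0, hF.pos⟩, Finset.eq_singleton_iff_unique_mem.2 ⟨?_, fun i hi => ?_⟩⟩
  · rw [Finset.mem_filter]
    refine ⟨Finset.mem_univ _, MonoidHom.ext fun x => ?_⟩
    rw [MonoidHom.comp_apply]
    exact congrArg ψ (by simpa using sg_period hF 0 x)
  · rw [Finset.mem_filter] at hi
    obtain ⟨q, hq⟩ := comp_fixed hF hψ hi.2
    have := i.2
    rcases Nat.eq_zero_or_pos q with rfl | hq0
    · exact Fin.ext (by simpa using hq)
    · have := Nat.le_mul_of_pos_right m hq0
      omega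

theorem orbN_le {ψ ψ' : (P : Subgroup G) →* ℂˣ} (hψ' : ψ' ≠ 1) : orbN hF ψ ψ' ≤ 1 := by
  classical
  rw [orbN, Finset.card_le_one]
  intro i hi j hj
  rw [Finset.mem_filter] at hi hj
  exact comp_eq_iff hF hψ' (hi.2.trans hj.2.symm)

theorem orbN_eq_one_iff {ψ ψ' : (P : Subgroup G) →* ℂˣ} (hψ' : ψ' ≠ 1) :
    orbN hF ψ ψ' = 1 ↔ ∃ i : Fin m, ψ'.comp (sg hF i) = ψ := by
  classical
  constructor
  · intro h
    rw [orbN, Finset.card_eq_one] at h
    obtain ⟨i, hi⟩ := h
    have : i ∈ ({i} : Finset (Fin m)) := Finset.mem_singleton_self i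
    rw [← hi] at this
    simp only [Finset.mem_filter, Finset.mem_univ, true_and] at this
    exact ⟨i, this⟩
  · rintro ⟨i, hi⟩
    refine le_antisymm (orbN_le hF hψ') (Finset.card_pos.2 ⟨i, ?_⟩)
    simp [hi]

/-- Each orbit has `m` members. -/
theorem orbit_card [Fintype ((P : Subgroup G) →* ℂˣ)] [DecidableEq ((P : Subgroup G) →* ℂˣ)]
    {ψ : (P : Subgroup G) →* ℂˣ} (hψ : ψ ≠ 1) :
    ((Finset.univ.erase 1).filter fun ψ' => orbN hF ψ ψ' = 1).card = m := by
  classical
  rw [Finset.card_eq_of_bijective (fun i hi => ψ.comp (sg hF ((m - 1) * i))) ?_ ?_ ?_]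
  · intro a ha
    simp only [Finset.mem_filter, Finset.mem_erase, Finset.mem_univ, and_true] at ha
    obtain ⟨i, hi⟩ := (orbN_eq_one_iff hF ha.1).1 ha.2
    refine ⟨i, i.2, ?_⟩
    rw [← hi]
    ext x
    simp only [MonoidHom.comp_apply, sg_back']
  · intro i hi
    simp only [Finset.mem_filter, Finset.mem_erase, Finset.mem_univ, and_true]
    refine ⟨comp_ne_one hF hψ, (orbN_eq_one_iff hF (comp_ne_one hF hψ)).2 ⟨⟨i, hi⟩, ?_⟩⟩
    ext x
    simp only [MonoidHom.comp_apply, sg_back]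
  · intro i j hi hj hij
    have : (⟨i, hi⟩ : Fin m) = ⟨j, hj⟩ := by
      refine comp_eq_iff hF hψ (MonoidHom.ext fun x => ?_)
      have h1 := DFunLike.congr_fun hij (sg hF (i + j) x)
      simp only [MonoidHom.comp_apply, sg_add] at h1
      have e1 : (m - 1) * i + (i + j) = m * i + j := by
        rw [← add_assoc, back_add hF]
      have e2 : (m - 1) * j + (i + j) = m * j + i := by
        rw [add_comm i j, ← add_assoc, back_add hF]
      rw [e1, e2, ← sg_add, ← sg_add, sg_period, sg_period] at h1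
      simp only [MonoidHom.comp_apply]
      exact h1.symm
    exact congrArg Fin.val this

variable [Fact p.Prime]

include hF in
/-- The centraliser of a non-identity element of `P` has a normal `p`-complement. -/
theorem centralizer_complement {x : G} (hx : x ∈ (P : Subgroup G)) (hx1 : x ≠ 1) :
    ∃ K : Subgroup (Subgroup.centralizer ({x} : Set G)), K.Normal ∧ ¬ p ∣ Nat.card K ∧
      K.index = Nat.card (P : Subgroup G) := by
  set C := Subgroup.centralizer ({x} : Set G)
  have hle : (P : Subgroup G) ≤ C := fun a ha =>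
    Subgroup.mem_centralizer_singleton_iff.2 (hF.comm a ha x hx)
  set Q : Sylow p C := P.subtype hle with hQ
  have hQmem : ∀ a : C, a ∈ (Q : Subgroup C) ↔ (a : G) ∈ (P : Subgroup G) := by
    intro a
    rw [hQ, Sylow.coe_subtype]
    rfl
  have hN : Subgroup.normalizer ((Q : Subgroup C) : Set C) ≤
      Subgroup.centralizer ((Q : Subgroup C) : Set C) := by
    intro c hc a ha
    have h1 : ∀ w ∈ (P : Subgroup G), (c : G) * w * (c : G)⁻¹ ∈ (P : Subgroup G) := fun w hw =>
      (hQmem (c * ⟨w, hle hw⟩ * c⁻¹)).1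
        ((Subgroup.mem_normalizer_iff.1 hc ⟨w, hle hw⟩).1 ((hQmem ⟨w, hle hw⟩).2 hw))
    have hcN : (c : G) ∈ Subgroup.normalizer ((P : Subgroup G) : Set G) :=
      Subgroup.mem_normalizer_iff_map_conj_eq.2 <| Subgroup.eq_of_le_of_card_ge
        (by rintro _ ⟨w, hw, rfl⟩; exact h1 w hw)
        (by rw [Subgroup.card_map_of_injective (MulEquiv.injective _)])
    have := Subgroup.mem_centralizer_iff.1 (hF.cen c hcN x hx hx1
      (Subgroup.mem_centralizer_singleton_iff.1 c.2)) a ((hQmem a).1 ha)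
    exact Subtype.ext this
  have hc := MonoidHom.ker_transferSylow_isComplement' Q hN
  refine ⟨(MonoidHom.transferSylow Q hN).ker, inferInstance,
    MonoidHom.not_dvd_card_ker_transferSylow Q hN, ?_⟩
  rw [hc.symm.index_eq_card, hQ, Sylow.coe_subtype]
  exact Nat.card_congr (Subgroup.subgroupOfEquivOfLe hle).toEquiv

include hF in
/-- Characters of the principal block are constant on the `p`-section of `y ∈ P`. -/
theorem section_const (M : Ideal Cfsg.AlgInt) (hM : Cfsg.IsPModular p M) {z y : G}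
    (hz : Cfsg.IsPPart p z y) (hy : y ∈ (P : Subgroup G)) (hy1 : y ≠ 1) (χ : Cfsg.IrrCharacter G)
    (hχ : χ ∈ Cfsg.principalBlock M G) : (χ : G → ℂ) z = (χ : G → ℂ) y := by
  obtain ⟨v, hv, hcom, hpow, hv'⟩ := hz
  obtain ⟨K, hKn, hK2, hKi⟩ := centralizer_complement hF hy hy1
  obtain ⟨k, hk⟩ := IsPGroup.iff_card.1 P.2
  have hvC : v ∈ Subgroup.centralizer ({y} : Set G) :=
    Subgroup.mem_centralizer_singleton_iff.2 hcom.symm
  have hmem : (⟨v, hvC⟩ : Subgroup.centralizer ({y} : Set G)) ∈ K := by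
    rw [← QuotientGroup.eq_one_iff, ← orderOf_eq_one_iff]
    refine Nat.eq_one_of_dvd_coprimes (Nat.Coprime.pow_left k
      (((Fact.out : p.Prime).coprime_iff_not_dvd).2 hv')) (hk ▸ hKi ▸ ?_) ?_
    · rw [Subgroup.index_eq_card]; exact orderOf_dvd_natCard _
    · rw [← Subgroup.orderOf_mk v hvC]
      exact orderOf_map_dvd (QuotientGroup.mk' K) _
  rw [← hv]
  exact Cfsg.Agent.S0942.result p M hM y hpow v
    (Subgroup.mem_map.2 ⟨_, Lib.Cores.le_pPrimeCore_of_not_dvd hK2 hmem, rfl⟩) χ hχ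

include hF in
/-- The norm sum at a non-identity element of `P`. -/
theorem sum_norm_sq (M : Ideal Cfsg.AlgInt) (hM : Cfsg.IsPModular p M) {x : G}
    (hx : x ∈ (P : Subgroup G)) (hx1 : x ≠ 1) :
    ∑ᶠ ζ ∈ Cfsg.principalBlock M G, ‖(ζ : G → ℂ) x‖ ^ 2 =
      (Nat.card (P : Subgroup G) : ℝ) := by
  obtain ⟨K, hKn, hK2, hKi⟩ := centralizer_complement hF hx hx1
  obtain ⟨k, hk⟩ := IsPGroup.iff_card.1 P.2
  rw [hk] at hKi
  obtain ⟨i, hi⟩ := IsPGroup.iff_orderOf.1 P.2 ⟨x, hx⟩
  rw [← Subgroup.orderOf_coe] at hi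
  have hp : p.Prime := Fact.out
  have h := (Cfsg.Agent.S0947.result p M hM x ⟨i, hi⟩ hx1 1 (by simp [hp.ne_one])).2 (by
    obtain ⟨j, -, hj⟩ := (Nat.dvd_prime_pow hp).1 (hKi ▸ Subgroup.index_dvd_of_le
      (Lib.Cores.le_pPrimeCore_of_not_dvd hK2 :
        K ≤ Cfsg.pPrimeCore p (Subgroup.centralizer ({x} : Set G))))
    exact ⟨j, hj⟩)
  rw [OneMemClass.coe_one, mul_one, ← K.card_mul_index, hKi,
    Nat.factorization_mul Nat.card_pos.ne' (pow_ne_zero _ hp.ne_zero), Finsupp.add_apply,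
    Nat.factorization_eq_zero_of_not_dvd hK2, hp.factorization_pow,
    Finsupp.single_eq_same, zero_add] at h
  rw [h, hk]

include hF in
open scoped Classical in
/-- Sums over the principal block at two elements of `P`. -/
theorem sum_pair (M : Ideal Cfsg.AlgInt) (hM : Cfsg.IsPModular p M) {x y : (P : Subgroup G)}
    (hx : x ≠ 1) :
    ∑ᶠ χ ∈ Cfsg.principalBlock M G, (χ : G → ℂ) x * conj ((χ : G → ℂ) y) =
      (Nat.card (P : Subgroup G) : ℂ) *
        ∑ i : Fin m, (if sg hF i x = y then (1 : ℂ) else 0) := by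
  haveI := hM.2.1
  by_cases h : IsConj (x : G) (y : G)
  · obtain ⟨i, hi⟩ := hF.fus x x.2 y y.2 h
    have hy : sg hF i x = y := Subtype.ext hi
    rw [Finset.sum_eq_single i ?_ (fun h => absurd (Finset.mem_univ i) h), if_pos hy, mul_one]
    swap
    · exact fun j _ hj => if_neg fun e => hj (sg_eq_iff hF hx (e.trans hy.symm))
    have h' := congrArg (fun r : ℝ => (r : ℂ))
      (sum_norm_sq hF M hM x.2 (fun e => hx (Subtype.ext e)))
    simp only [Complex.ofReal_natCast] at h'
    rw [← h', finsum_mem_eq_finite_toFinset_sum _ (Set.toFinite _),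
      finsum_mem_eq_finite_toFinset_sum _ (Set.toFinite _), Complex.ofReal_sum]
    refine Finset.sum_congr rfl fun χ _ => ?_
    rw [← char_eq_of_isConj χ h, Complex.mul_conj']
    push_cast
    rfl
  · rw [Finset.sum_eq_zero (fun (i : Fin m) _ => if_neg fun (e : sg hF i x = y) =>
      h (isConj_iff.2 ⟨_, congrArg Subtype.val e⟩)), mul_zero]
    obtain ⟨i, hi⟩ := IsPGroup.iff_orderOf.1 P.2 x
    obtain ⟨j, hj⟩ := IsPGroup.iff_orderOf.1 P.2 y
    rw [← Subgroup.orderOf_coe] at hi hj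
    rw [← sum_block_eq_zero hM (isPPart_self hM.1 ⟨i, hi⟩)
      (isPPart_self hM.1 ⟨j, hj⟩) h isPBlock_principalBlock]
    refine finsum_congr fun χ => finsum_congr fun _ => ?_
    rw [apply_inv (isCharacter_irr χ)]

/-- A `p`-element is conjugate into `P`. -/
theorem exists_conj_mem {g : G} (hg : ∃ k, orderOf g = p ^ k) :
    ∃ c : G, c * g * c⁻¹ ∈ (P : Subgroup G) := by
  obtain ⟨k, hk⟩ := hg
  have hp : IsPGroup p (Subgroup.zpowers g) :=
    IsPGroup.of_card (n := k) (by rw [Nat.card_zpowers, hk])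
  obtain ⟨Q, hQ⟩ := hp.exists_le_sylow
  obtain ⟨c, hc⟩ := MulAction.exists_smul_eq G Q P
  refine ⟨c, ?_⟩
  rw [← hc, Sylow.coe_subgroup_smul]
  simpa using Subgroup.smul_mem_pointwise_smul (a := MulAut.conj c) g (Q : Subgroup G)
    (hQ (Subgroup.mem_zpowers g))

include hF in
/-- The number of `p`-regular elements is prime to `p`. -/
theorem not_dvd_card_regular : ¬ p ∣ Nat.card {g : G // ¬ p ∣ orderOf g} := by
  classical
  haveI := Fintype.ofFinite G
  have hp : p.Prime := Fact.out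
  set X := {g : G // ¬ p ∣ orderOf g}
  let act : MulAction (P : Subgroup G) X :=
    { smul := fun a g => ⟨(a : G) * g.1 * (a : G)⁻¹, by
        rw [show (a : G) * g.1 * (a : G)⁻¹ = MulAut.conj (a : G) g.1 from rfl, MulEquiv.orderOf_eq]
        exact g.2⟩
      mul_smul := fun a b g => Subtype.ext (by
        change ((a * b : (P : Subgroup G)) : G) * g.1 * ((a * b : (P : Subgroup G)) : G)⁻¹ =
          (a : G) * ((b : G) * g.1 * (b : G)⁻¹) * (a : G)⁻¹
        push_cast
        group)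
      one_smul := fun g => Subtype.ext (by
        change ((1 : (P : Subgroup G)) : G) * g.1 * ((1 : (P : Subgroup G)) : G)⁻¹ = g.1
        simp) }
  intro hdvd
  have hmod := P.2.card_modEq_card_fixedPoints X
  have hd' : p ∣ Nat.card (MulAction.fixedPoints (P : Subgroup G) X) :=
    Nat.modEq_zero_iff_dvd.1 (hmod.symm.trans (Nat.modEq_zero_iff_dvd.2 hdvd))
  -- the fixed points are a normal p-complement of the centraliser
  set C := Subgroup.centralizer ((P : Subgroup G) : Set G) with hC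
  have hle : (P : Subgroup G) ≤ C := fun a ha =>
    Subgroup.mem_centralizer_iff.2 fun b hb => hF.comm b hb a ha
  set Q : Sylow p C := P.subtype hle with hQ
  have hN : Subgroup.normalizer ((Q : Subgroup C) : Set C) ≤
      Subgroup.centralizer ((Q : Subgroup C) : Set C) := by
    intro c _ a ha
    rw [hQ, SetLike.mem_coe, Sylow.coe_subtype, Subgroup.mem_subgroupOf] at ha
    exact Subtype.ext (Subgroup.mem_centralizer_iff.1 c.2 (a : G) ha)
  have hc := MonoidHom.ker_transferSylow_isComplement' Q hN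
  set K := (MonoidHom.transferSylow Q hN).ker
  have hK : ¬ p ∣ Nat.card K := MonoidHom.not_dvd_card_ker_transferSylow Q hN
  apply hK
  have hfix : ∀ g : X, g ∈ MulAction.fixedPoints (P : Subgroup G) X ↔ g.1 ∈ C := by
    intro g
    rw [MulAction.mem_fixedPoints, Subgroup.mem_centralizer_iff]
    exact ⟨fun h a ha => mul_inv_eq_iff_eq_mul.1 (congrArg Subtype.val (h ⟨a, ha⟩)),
      fun h a => Subtype.ext (mul_inv_eq_iff_eq_mul.2 (h a a.2))⟩
  have hKX : ∀ k : K, ¬ p ∣ orderOf ((k : C) : G) := by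
    intro k
    rw [Subgroup.orderOf_coe, Subgroup.orderOf_coe]
    exact fun hd => hK (hd.trans (orderOf_dvd_natCard k))
  have hXK : ∀ g : X, ∀ hg : g.1 ∈ C, (⟨g.1, hg⟩ : C) ∈ K := by
    intro g hg
    rw [MonoidHom.mem_ker]
    obtain ⟨i, hi⟩ := IsPGroup.iff_orderOf.1 Q.2 (MonoidHom.transferSylow Q hN ⟨g.1, hg⟩)
    have h1 := orderOf_map_dvd (MonoidHom.transferSylow Q hN) ⟨g.1, hg⟩
    rw [hi, Subgroup.orderOf_mk] at h1
    rcases Nat.eq_zero_or_pos i with rfl | hpos
    · exact orderOf_eq_one_iff.1 (by simpa using hi)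
    · exact absurd ((dvd_pow_self p hpos.ne').trans h1) g.2
  let E : MulAction.fixedPoints (P : Subgroup G) X ≃ K :=
    { toFun := fun g => ⟨⟨g.1.1, (hfix g.1).1 g.2⟩, hXK g.1 _⟩
      invFun := fun k => ⟨⟨((k : C) : G), hKX k⟩, (hfix _).2 (k : C).2⟩
      left_inv := fun _ => rfl
      right_inv := fun _ => rfl }
  rwa [Nat.card_congr E] at hd'

include hF in
/-- A character of the principal block is non-zero at some non-identity element of `P`. -/
theorem exists_ne_zero (M : Ideal Cfsg.AlgInt) (hM : Cfsg.IsPModular p M)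
    (χ : Cfsg.IrrCharacter G) (hχ : χ ∈ Cfsg.principalBlock M G) (hne : χ ≠ oneChar G) :
    ∃ y ∈ (P : Subgroup G), y ≠ 1 ∧ (χ : G → ℂ) y ≠ 0 := by
  classical
  haveI := hM.2.1
  haveI := Fintype.ofFinite G
  haveI := Fintype.ofFinite (ConjClasses G)
  by_contra hall
  push Not at hall
  set Reg : Finset G := Finset.univ.filter fun g => ¬ p ∣ orderOf g with hReg
  have hsing : ∀ g : G, p ∣ orderOf g → (χ : G → ℂ) g = 0 := by
    intro g hg
    obtain ⟨u, hu⟩ := exists_isPPart (G := G) hM.1 g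
    have hu1 : u ≠ 1 := isPPart_ne_one hu hg
    obtain ⟨v, hv, hcom, hpow, hv'⟩ := hu
    obtain ⟨c, hc⟩ := exists_conj_mem (P := P) hpow
    have hpart := BrauerMap.PrincipalSection.isPPart_conj (⟨v, hv, hcom, hpow, hv'⟩ :
      Cfsg.IsPPart p g u) c
    have hc1 : c * u * c⁻¹ ≠ 1 := fun e => hu1 (by simpa using e)
    rw [← Blocks.char_conj_apply χ g c, section_const hF M hM hpart hc hc1 χ hχ]
    exact hall _ hc hc1
  have hsum0 : ∑ g ∈ Reg, (χ : G → ℂ) g = 0 := by
    have h := classInner_irr χ (oneChar G)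
    rw [if_neg hne, Cfsg.classInner, mul_eq_zero] at h
    have h' := h.resolve_left (inv_ne_zero Induced.Basic.natCard_ne_zero)
    simp only [oneChar_apply, map_one, mul_one] at h'
    rw [← h', hReg, Finset.sum_filter]
    refine Finset.sum_congr rfl fun g _ => ?_
    split_ifs with hg
    · rw [hsing g hg]
    · rfl
  have hSreg : ∀ a b : G, IsConj a b → a ∈ {g : G | ¬ p ∣ orderOf g} →
      b ∈ {g : G | ¬ p ∣ orderOf g} := by
    intro a b hab ha
    obtain ⟨c, rfl⟩ := isConj_iff.1 hab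
    show ¬ p ∣ orderOf (c * a * c⁻¹)
    rw [show c * a * c⁻¹ = MulAut.conj c a from rfl, MulEquiv.orderOf_eq]
    exact ha
  have hl : (Set.toFinite {g : G | ¬ p ∣ orderOf g}).toFinset = Reg := by
    ext g; simp [hReg]
  have hfs : ∀ ξ : Cfsg.IrrCharacter G, ∑ g ∈ Reg, (ξ : G → ℂ) g / (ξ : G → ℂ) 1 =
      ∑ c : ConjClasses G with c.out ∈ {g : G | ¬ p ∣ orderOf g},
        Cfsg.centralChar (ξ : G → ℂ) c.out := by
    intro ξ
    have hh := Cfsg.Agent.Lib.BrauerMap.Induced.finsum_eq_sum_centralChar _ hSreg ξ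
    rw [finsum_mem_eq_finite_toFinset_sum _ (Set.toFinite _), hl] at hh
    convert hh using 3
  have key : Cfsg.MemLocalIdeal M
      ((Reg.card : ℂ) - ∑ g ∈ Reg, (χ : G → ℂ) g / (χ : G → ℂ) 1) := by
    have h1 := hfs (oneChar G)
    simp only [oneChar_apply, div_one, Finset.sum_const, nsmul_eq_mul, mul_one] at h1
    rw [h1, hfs χ, ← Finset.sum_sub_distrib]
    refine memLocalIdeal_sum _ fun c _ => ?_
    exact (Chars82.PrincipalBlock.mem_principalBlock_iff.1 hχ c.out |> fun h => by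
      simpa [Cfsg.centralChar, oneChar_apply] using h)
  rw [← Finset.sum_div, hsum0, zero_div, sub_zero, memLocalIdeal_natCast_iff hM] at key
  apply not_dvd_card_regular hF
  rwa [Nat.card_eq_fintype_card, Fintype.card_subtype]

end Cfsg.Agent.Lib.FpfBlock.Setting
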